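import Cfsg.Agent.KZ.Ch3X.Gen
import Cfsg.Agent.KZ.Tool.Up
import Cfsg.Agent.KZ.RedB.Gen

/-!
# KZ, defining characteristic `3`, classical groups: the interface (helper38)

Notes: `notes/KZ/ch3.md`.

* `At M S`: the four rows for one simple group; `row_of_at`;
* `Ch`, `InvAll`, `InvSq`, `Orth`, `Duo`, `Tri`: invariant characters of degree prime to `3`; `Duo.invA`, `Tri.p4`;
* `AdY Q Y`: a group of automorphisms with many characters of degree prime to `3`; `AdY.lo3`, `AdY.k0`;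
* `at_gen`, `at_nine`: the generic case and the case `nab = 9`.
-/

set_option autoImplicit false
set_option linter.unusedSectionVars false

namespace Cfsg.Agent.KZ.Ch3

open Cfsg Cfsg.Agent.KZ.Tool Cfsg.Agent.KZ.Red Cfsg.Agent.KZ.Res Cfsg.Agent.KZ.Ch3X Cfsg.Agent.Characters.Core Subgroup
open scoped ComplexConjugate

variable {M : Ideal AlgInt} {S : Type} [Group S]

/-! ### the rows for one group -/

/-- upper bound for the almost simple groups with socle `S` -/
def UpAt (M : Ideal AlgInt) (S : Type) [Group S] : Prop :=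
  ∀ (A : Type) [Group A] [Finite A] (N : Subgroup A), AS A N → Nonempty (↥N ≃* S) → ∀ P : Sylow 3 A, nab P = 9 → k0 M A ≤ 9

/-- lower bound for the almost simple groups with socle `S` -/
def LoAt (M : Ideal AlgInt) (S : Type) [Group S] : Prop :=
  ∀ (A : Type) [Group A] [Finite A] (N : Subgroup A), AS A N → Nonempty (↥N ≃* S) → (¬ 3 ∣ N.index ∨ N.index = 3) →
    ∀ P : Sylow 3 A, 27 ≤ nab P → 10 ≤ k0 M A

/-- the four rows for one group -/
structure At (M : Ideal AlgInt) (S : Type) [Group S] : Prop where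
  up : UpAt M S
  lo : LoAt M S
  two : Two M S
  inv : Inv M S

theorem At.congr [Finite S] (hM : IsPModular 3 M) {T : Type} [Group T] (e : S ≃* T) (h : At M T) : At M S where
  up A _ _ N hA := fun ⟨e'⟩ => h.up A N hA ⟨e'.trans e⟩
  lo A _ _ N hA := fun ⟨e'⟩ => h.lo A N hA ⟨e'.trans e⟩
  two := two_congr hM e h.two
  inv := inv_congr hM e h.inv

theorem row_of_at {K : Fam} (h : ∀ M : Ideal AlgInt, IsPModular 3 M → ∀ (S : Type) [Group S] [Finite S],
    IsSimpleGroup S → ¬ IsMulCommutative S → 3 ∣ Nat.card S → K S → At M S) : Row K where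
  up M hM A _ _ N hA hK := (h M hM ↥N hA.simple hA.nonab hA.three hK).up A N hA ⟨MulEquiv.refl _⟩
  lo M hM A _ _ N hA hK := (h M hM ↥N hA.simple hA.nonab hA.three hK).lo A N hA ⟨MulEquiv.refl _⟩
  two M hM S _ _ h1 h2 h3 h4 := (h M hM S h1 h2 h3 h4).two
  inv M hM S _ _ h1 h2 h3 h4 := (h M hM S h1 h2 h3 h4).inv

/-- a row which is known for a family gives `At` for a group of the family which is closed under isomorphisms -/
theorem at_of_row {K : Fam} (h : Row K) (hM : IsPModular 3 M) [Finite S] (hs : IsSimpleGroup S)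
    (hab : ¬ IsMulCommutative S) (h3 : 3 ∣ Nat.card S) (hK : ∀ (T : Type) [Group T], Nonempty (T ≃* S) → K T) : At M S where
  up A _ _ N hA he := h.up M hM A N hA (hK _ he)
  lo A _ _ N hA he := h.lo M hM A N hA (hK _ he)
  two := h.two M hM S hs hab h3 (hK _ ⟨MulEquiv.refl _⟩)
  inv := h.inv M hM S hs hab h3 (hK _ ⟨MulEquiv.refl _⟩)

/-! ### invariant characters -/

/-- a character of degree prime to `3` -/
structure Ch (ρ : S → ℂ) : Prop where
  char : IsCharacter S ρ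
  deg : ¬ 3 ∣ charDegree ρ

/-- invariant under all automorphisms -/
def InvAll (ρ : S → ℂ) : Prop := ∀ (σ : MulAut S) (x : S), ρ (σ x) = ρ x

/-- invariant under the squares of all automorphisms -/
def InvSq (ρ : S → ℂ) : Prop := ∀ (σ : MulAut S) (x : S), ρ (σ (σ x)) = ρ x

/-- orthogonal functions -/
def Orth (ρ ρ' : S → ℂ) : Prop := ∑ᶠ x, ρ x * conj (ρ' x) = 0

/-- two invariant characters -/
def Duo (S : Type) [Group S] : Prop :=
  ∃ a b : S → ℂ, Ch a ∧ Ch b ∧ InvAll a ∧ InvAll b ∧ Orth a b ∧ Orth a (fun _ => 1) ∧ Orth b fun _ => 1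

/-- three characters -/
def Tri (S : Type) [Group S] : Prop :=
  ∃ a b c : S → ℂ, Ch a ∧ Ch b ∧ Ch c ∧ InvAll a ∧ InvAll b ∧ InvSq c ∧ Orth a b ∧ Orth a c ∧ Orth b c ∧
    Orth a (fun _ => 1) ∧ Orth b (fun _ => 1) ∧ Orth c fun _ => 1

/-- all characters of degree prime to `3` are members -/
def AllM (M : Ideal AlgInt) (S : Type) [Group S] : Prop :=
  ∀ χ : IrrCharacter S, ¬ 3 ∣ charDegree (χ : S → ℂ) → Mem M χ

theorem Tri.duo (h : Tri S) : Duo S :=
  let ⟨a, b, _, h1, h2, _, h4, h5, _, h7, _, _, h10, h11, _⟩ := h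
  ⟨a, b, h1, h2, h4, h5, h7, h10, h11⟩

theorem InvAll.sq {ρ : S → ℂ} (h : InvAll ρ) : InvSq ρ := fun σ x => by rw [h, h]

theorem orth_iff [Fintype S] {ρ ρ' : S → ℂ} : Orth ρ ρ' ↔ classInner ρ ρ' = 0 := by
  rw [Orth, classInner_def, finsum_eq_sum_of_fintype, mul_eq_zero, or_iff_right (inv_ne_zero card_ne_zero_complex)]

theorem ip_comp [Fintype S] {T : Type} [Group T] [Fintype T] (e : S ≃* T) (a b : T → ℂ) :
    classInner (fun x => a (e x)) (fun x => b (e x)) = classInner a b := by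
  rw [classInner_def, classInner_def, Nat.card_congr e.toEquiv, ← Equiv.sum_comp e.toEquiv]
  rfl

theorem Ch.congr {T : Type} [Group T] (e : S ≃* T) {a : T → ℂ} (h : Ch a) : Ch fun x => a (e x) :=
  ⟨isCharacter_comp e.toMonoidHom h.char, by
    have h1 := h.deg
    unfold charDegree at h1 ⊢
    simpa only [map_one] using h1⟩

theorem InvAll.congr {T : Type} [Group T] (e : S ≃* T) {a : T → ℂ} (h : InvAll a) : InvAll fun x => a (e x) :=
  fun σ x => by simpa using h (MulAut.congr e σ) (e x)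

theorem InvSq.congr {T : Type} [Group T] (e : S ≃* T) {a : T → ℂ} (h : InvSq a) : InvSq fun x => a (e x) :=
  fun σ x => by simpa using h (MulAut.congr e σ) (e x)

theorem Orth.congr {T : Type} [Group T] (e : S ≃* T) {a b : T → ℂ} (h : Orth a b) :
    Orth (fun x => a (e x)) fun x => b (e x) :=
  (finsum_comp_equiv e.toEquiv (f := fun y => a y * conj (b y))).trans h

theorem Duo.congr {T : Type} [Group T] (e : S ≃* T) (h : Duo T) : Duo S :=
  let ⟨_, _, h1, h2, h3, h4, h5, h6, h7⟩ := h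
  ⟨_, _, h1.congr e, h2.congr e, h3.congr e, h4.congr e, h5.congr e, h6.congr e, h7.congr e⟩

theorem Tri.congr {T : Type} [Group T] (e : S ≃* T) (h : Tri T) : Tri S :=
  let ⟨_, _, _, h1, h2, h3, h4, h5, h6, h7, h8, h9, h10, h11, h12⟩ := h
  ⟨_, _, _, h1.congr e, h2.congr e, h3.congr e, h4.congr e, h5.congr e, h6.congr e, h7.congr e, h8.congr e, h9.congr e,
    h10.congr e, h11.congr e, h12.congr e⟩

variable [Finite S]

attribute [local instance] H687.autAct

theorem cast_deg {H : Type} [Group H] {χ : H → ℂ} (h : IsCharacter H χ) : (charDegree χ : ℂ) = χ 1 := by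
  obtain ⟨n, e⟩ := isCharacter_apply_one h
  rw [charDegree, e, Complex.natCast_re, Nat.floor_natCast]

/-- a `3`-group which fixes a character of degree prime to `3` fixes a constituent of degree prime to `3` -/
theorem exists_fixed [Fintype S] {ρ : S → ℂ} (hρ : Ch ρ) (X : Subgroup (MulAut S)) (hX : IsPGroup 3 ↥X)
    (h : ∀ σ ∈ X, ∀ x, ρ (σ x) = ρ x) : ∃ ψ : IrrCharacter S, ¬ 3 ∣ charDegree (ψ : S → ℂ) ∧
      classInner ρ (ψ : S → ℂ) ≠ 0 ∧ ∀ σ ∈ X, Fixes σ ψ := by
  classical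
  have : Fact (Nat.Prime 3) := ⟨Nat.prime_three⟩
  have := @Fintype.ofFinite _ (finite_irr (G := S))
  obtain ⟨m, hm⟩ := exists_nat_comb hρ.char
  have h1 : ∀ ψ : IrrCharacter S, classInner ρ (ψ : S → ℂ) = m ψ := fun ψ => by rw [hm, classInner_sum_nsmul_irr]
  have h2 : ∀ (σ : X) (ψ : IrrCharacter S), m (σ • ψ) = m ψ := fun σ ψ => by
    have h3 := ip_comp (σ : MulAut S) ρ ((σ : MulAut S) • ψ : IrrCharacter S)
    simp only [h σ σ.2, H687.autAct_apply, MulAut.inv_apply_self] at h3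
    exact_mod_cast (h1 _).symm.trans (h3.symm.trans (h1 ψ))
  by_contra! hc
  obtain ⟨z, hz, e⟩ := H687.sum_fixed hX (fun ψ : IrrCharacter S => ((m ψ * charDegree (ψ : S → ℂ) : ℕ) : ℂ))
    (fun σ ψ => by rw [h2, show charDegree ((σ • ψ : IrrCharacter S) : S → ℂ) = _ from H687.charDegree_smul σ ψ])
    fun _ => isIntegral_natCast _
  have h4 : ∑ ψ : IrrCharacter S, ((m ψ * charDegree (ψ : S → ℂ) : ℕ) : ℂ) = charDegree ρ := by
    rw [cast_deg hρ.char, hm]
    simp [Finset.sum_apply, fun ψ : IrrCharacter S => cast_deg (isIrr_isCharacter ψ.2)]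
  have h5 : 3 ∣ ∑ ψ : IrrCharacter S, if ψ ∈ MulAction.fixedPoints X (IrrCharacter S) then
      m ψ * charDegree (ψ : S → ℂ) else 0 := Finset.dvd_sum fun ψ _ => by
    split_ifs with h5
    · by_cases h6 : 3 ∣ charDegree (ψ : S → ℂ)
      · exact h6.mul_left _
      · by_cases h7 : m ψ = 0
        · simp [h7]
        · obtain ⟨σ, h8, h9⟩ := hc ψ h6 (by rwa [h1, Nat.cast_ne_zero])
          exact absurd ((fixes_iff σ ψ).2 (h5 ⟨σ, h8⟩)) h9
    · exact dvd_zero _
  obtain ⟨t, ht⟩ := h5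
  have h6 : (charDegree ρ : ℂ) = 3 * (t + z) := by
    have h7 := congrArg (Nat.cast : ℕ → ℂ) ht
    push_cast at h7 e h4
    rw [← h4, e, h7]
    ring
  have h7 : IsIntegral ℤ ((t : ℂ) + z) := (isIntegral_natCast _).add hz
  obtain ⟨k, hk | hk⟩ : ∃ k, charDegree ρ = 3 * k + 1 ∨ charDegree ρ + 1 = 3 * k := ⟨(charDegree ρ + 1) / 3, by
    have := hρ.deg
    omega⟩
  · refine H687.not_isIntegral_inv (p := 3) (by norm_num) ((isIntegral_natCast k).sub h7) ?_
    have h8 := congrArg (Nat.cast : ℕ → ℂ) hk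
    push_cast at h8 ⊢
    linear_combination h6 - h8
  · refine H687.not_isIntegral_inv (p := 3) (by norm_num) (h7.sub (isIntegral_natCast k)) ?_
    have h8 := congrArg (Nat.cast : ℕ → ℂ) hk
    push_cast at h8 ⊢
    linear_combination h8 - h6

/-- orthogonal characters have no common constituent -/
theorem ne_of_orth [Fintype S] {a b : S → ℂ} (ha : IsCharacter S a) (hb : IsCharacter S b) (h : Orth a b)
    {ψ : IrrCharacter S} (h1 : classInner a (ψ : S → ℂ) ≠ 0) (h2 : classInner b (ψ : S → ℂ) ≠ 0) : False := by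
  have := @Fintype.ofFinite _ (finite_irr (G := S))
  choose m hm using fun χ : IrrCharacter S => classInner_isNat ha (isIrr_isCharacter χ.2)
  choose n hn using fun χ : IrrCharacter S => classInner_isNat hb (isIrr_isCharacter χ.2)
  rw [orth_iff, classInner_eq_sum (isCharacter_isClassFunction ha) (isCharacter_isClassFunction hb)] at h
  simp only [hm, hn, map_natCast, ← Nat.cast_mul, ← Nat.cast_sum, Nat.cast_eq_zero, Finset.sum_eq_zero_iff] at h
  rcases Nat.mul_eq_zero.1 (h ψ (Finset.mem_univ _)) with e | e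
  · exact h1 ((hm ψ).trans (Nat.cast_eq_zero.2 e))
  · exact h2 ((hn ψ).trans (Nat.cast_eq_zero.2 e))

theorem nontriv_of_orth [Fintype S] {a : S → ℂ} (h : Orth a fun _ => 1) {ψ : IrrCharacter S}
    (h1 : classInner a (ψ : S → ℂ) ≠ 0) : Nontriv ψ := fun e => h1 (by rw [e]; exact orth_iff.1 h)

theorem InvSq.three {ρ : S → ℂ} (h : InvSq ρ) {X : Subgroup (MulAut S)} (hX : IsPGroup 3 ↥X) :
    ∀ σ ∈ X, ∀ x, ρ (σ x) = ρ x := fun σ hσ x => by
  obtain ⟨j, hj⟩ := hX ⟨σ, hσ⟩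
  have h1 : σ ^ 3 ^ j = 1 := congrArg Subtype.val hj
  obtain ⟨k, hk⟩ : Odd (3 ^ j) := Odd.pow (by decide)
  have h2 : σ = σ ^ (k + 1) * σ ^ (k + 1) := by
    rw [← pow_add, show k + 1 + (k + 1) = 3 ^ j + 1 by omega, pow_succ, h1, one_mul]
  rw [h2]
  exact h (σ ^ (k + 1)) x

theorem Duo.invA (h : Duo S) (hm : AllM M S) (X : Subgroup (MulAut S)) (hX : IsPGroup 3 ↥X) : InvA M X := by
  have := Fintype.ofFinite S
  obtain ⟨a, b, h1, h2, h3, h4, h5, h6, h7⟩ := h
  obtain ⟨α, a1, a2, a3⟩ := exists_fixed h1 X hX fun σ _ => h3 σ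
  obtain ⟨β, b1, b2, b3⟩ := exists_fixed h2 X hX fun σ _ => h4 σ
  refine ⟨α, β, hm _ a1, hm _ b1, nontriv_of_orth h6 a2, nontriv_of_orth h7 b2, fun σ e => ?_,
    fun σ hσ => ⟨a3 σ hσ, b3 σ hσ⟩⟩
  refine ne_of_orth h1.char h2.char h5 (fun h8 => a2 ?_) b2
  rw [← ip_comp σ, ← h8]
  simp only [h3 σ, e]

/-- four members fixed by every `3`-group of automorphisms -/
theorem p4_of_fix (h : ∀ X : Subgroup (MulAut S), IsPGroup 3 ↥X → ∃ R : Finset (IrrCharacter S), 4 ≤ R.card ∧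
    ∀ θ ∈ R, Mem M θ ∧ ∀ σ ∈ X, Fixes σ θ) : P4 M S := fun σ s hs _ => by
  have : Fact (Nat.Prime 3) := ⟨Nat.prime_three⟩
  have h0 : orderOf σ ≠ 0 := (orderOf_pos σ).ne'
  obtain ⟨a, b, hb, e⟩ := Nat.exists_eq_pow_mul_and_not_dvd h0 3 (by norm_num)
  have h1 : (σ ^ b) ^ 3 ^ a = 1 := by rw [← pow_mul, mul_comm, ← e, pow_orderOf_eq_one]
  obtain ⟨R, h2, h3⟩ := h (zpowers (σ ^ b)) (by
    obtain ⟨j, -, hj⟩ := (Nat.dvd_prime_pow Nat.prime_three).1 (orderOf_dvd_of_pow_eq_one h1)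
    exact IsPGroup.of_card (n := j) (by rw [Nat.card_zpowers, hj]))
  refine ⟨R, h2, fun θ hθ => ⟨(h3 θ hθ).1, ?_⟩⟩
  have h4 := (h3 θ hθ).2 _ (mem_zpowers _)
  have h5 : ∀ k, Fixes ((σ ^ 3) ^ k) θ := fun k => fixes_pow (hs ▸ fixes_conj s θ) k
  obtain ⟨k, hk | hk⟩ : ∃ k, b = 3 * k + 1 ∨ b + b = 3 * k + 1 :=
    if h6 : b % 3 = 1 then ⟨b / 3, .inl (by omega)⟩ else ⟨(b + b) / 3, .inr (by omega)⟩
  · have h6 := fixes_mul (fixes_inv (h5 k)) h4
    rwa [hk, pow_succ σ (3 * k), pow_mul, inv_mul_cancel_left] at h6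
  · have h6 := fixes_mul (fixes_inv (h5 k)) (fixes_mul h4 h4)
    rwa [← pow_add, hk, pow_succ σ (3 * k), pow_mul, inv_mul_cancel_left] at h6

theorem Tri.p4 (h : Tri S) (hM : IsPModular 3 M) (hm : AllM M S) : P4 M S := p4_of_fix fun X hX => by
  classical
  have := Fintype.ofFinite S
  obtain ⟨a, b, c, h1, h2, h3, h4, h5, h6, h7, h8, h9, h10, h11, h12⟩ := h
  obtain ⟨α, a1, a2, a3⟩ := exists_fixed h1 X hX fun σ _ => h4 σ
  obtain ⟨β, b1, b2, b3⟩ := exists_fixed h2 X hX fun σ _ => h5 σ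
  obtain ⟨γ, c1, c2, c3⟩ := exists_fixed h3 X hX (h6.three hX)
  have n1 : α ≠ β := fun e => ne_of_orth h1.char h2.char h7 a2 (e ▸ b2)
  have n2 : α ≠ γ := fun e => ne_of_orth h1.char h3.char h8 a2 (e ▸ c2)
  have n3 : β ≠ γ := fun e => ne_of_orth h2.char h3.char h9 b2 (e ▸ c2)
  have n4 := nontriv_iff.1 (nontriv_of_orth h10 a2)
  have n5 := nontriv_iff.1 (nontriv_of_orth h11 b2)
  have n6 := nontriv_iff.1 (nontriv_of_orth h12 c2)
  refine ⟨{α, β, γ, triv S}, ?_, fun θ hθ => ?_⟩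
  · rw [Finset.card_insert_of_notMem (by simp [*]), Finset.card_insert_of_notMem (by simp [*]),
      Finset.card_pair n6]
  · simp only [Finset.mem_insert, Finset.mem_singleton] at hθ
    rcases hθ with rfl | rfl | rfl | rfl
    exacts [⟨hm _ a1, a3⟩, ⟨hm _ b1, b3⟩, ⟨hm _ c1, c3⟩, ⟨mem_triv hM, fun _ _ _ => rfl⟩]

/-! ### almost simple groups inside the automorphism group -/

section Au

variable {A : Type} [Group A] [Finite A] {N : Subgroup A} [hN : N.Normal]

/-- the action on the socle -/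
def au (e : ↥N ≃* S) : A →* MulAut S := (MulAut.congr e).toMonoidHom.comp MulAut.conjNormal

theorem au_apply (e : ↥N ≃* S) (g : A) (n : ↥N) : au e g (e n) = e (MulAut.conjNormal g n) := by simp [au]

theorem au_coe (e : ↥N ≃* S) (n : ↥N) : au e (n : A) = MulAut.conj (e n) := by
  rw [← congr_conj e n, ← conjNormal_coe]
  rfl

theorem au_inj (e : ↥N ≃* S) (hc : centralizer (N : Set A) = ⊥) : Function.Injective (au e) := by
  rw [injective_iff_map_eq_one]
  intro g hg
  rw [← mem_bot, ← hc, mem_centralizer_iff]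
  intro n hn
  have h1 := au_apply e g ⟨n, hn⟩
  rw [hg, MulAut.one_apply] at h1
  have h2 : n = g * n * g⁻¹ := congrArg Subtype.val (e.injective h1)
  rw [eq_mul_inv_iff_mul_eq] at h2
  exact h2

theorem inn_le_range (e : ↥N ≃* S) : Inn S ≤ (au e).range := by
  rintro _ ⟨s, rfl⟩
  obtain ⟨n, rfl⟩ := e.surjective s
  exact ⟨n, au_coe e n⟩

theorem comap_inn (e : ↥N ≃* S) (hc : centralizer (N : Set A) = ⊥) : (Inn S).comap (au e) = N := by
  ext g
  refine ⟨fun ⟨s, hs⟩ => ?_, fun hg => ⟨e ⟨g, hg⟩, (au_coe e ⟨g, hg⟩).symm⟩⟩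
  obtain ⟨n, rfl⟩ := e.surjective s
  rw [← au_inj e hc ((au_coe e n).trans hs)]
  exact n.2

theorem relIndex_range (e : ↥N ≃* S) (hc : centralizer (N : Set A) = ⊥) : (Inn S).relIndex (au e).range = N.index := by
  conv_rhs => rw [← comap_inn e hc, index_comap]

theorem cj_tr (e : ↥N ≃* S) (g : A) (θ : IrrCharacter S) : cj g (tr e θ) = tr e ((au e g)⁻¹ • θ) :=
  Subtype.ext (funext fun n => by rw [cj_apply, tr_apply, tr_apply, H687.autAct_apply, inv_inv, au_apply])

theorem card_over_mul (e : ↥N ≃* S) (hc : centralizer (N : Set A) = ⊥) {K : Subgroup (MulAut S)}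
    (hK : (au e).range ≤ K) (θ : IrrCharacter S) :
    Nat.card {χ : IrrCharacter A // Over N χ (tr e θ)} * Nat.card S ≤ Nat.card ↥(MulAction.stabilizer ↥K θ) := by
  have h1 := (card_over_le (tr e θ)).trans (card_conj_le _)
  have h2 := (N.subgroupOf (stab (tr e θ) : Subgroup A)).index_mul_card
  rw [Nat.card_congr (subgroupOfEquivOfLe (le_stab (tr e θ))).toEquiv, Nat.card_congr e.toEquiv] at h2
  refine (Nat.mul_le_mul_right _ h1).trans (h2.le.trans ?_)
  refine Nat.card_le_card_of_injective (fun g => ⟨⟨au e g, hK ⟨g, rfl⟩⟩, ?_⟩) fun a b h =>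
    Subtype.ext (au_inj e hc (congrArg (fun z : ↥(MulAction.stabilizer ↥K θ) => (z.1 : MulAut S)) h))
  have h3 := mem_stab.1 g.2
  rw [cj_tr, (tr e).apply_eq_iff_eq, inv_smul_eq_iff] at h3
  exact h3.symm

/-- many characters of `A` give many orbits of `K` -/
theorem exists_orbs (e : ↥N ≃* S) (hc : centralizer (N : Set A) = ⊥) {K : Subgroup (MulAut S)}
    (hK : (au e).range ≤ K) {k : ℕ}
    (h : k * (Inn S).relIndex K < Nat.card {χ : IrrCharacter A // ¬ 3 ∣ charDegree (χ : A → ℂ)}) :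
    ∃ f : Fin (k + 1) → IrrCharacter S, (∀ i, ¬ 3 ∣ charDegree (f i : S → ℂ)) ∧
      ∀ i j, ∀ σ ∈ K, σ • f i = f j → i = j := by
  classical
  have : Finite (IrrCharacter A) := finite_irr
  have : Finite (IrrCharacter S) := finite_irr
  have h0 : ∀ χ : IrrCharacter A, ∃ θ : IrrCharacter S, Over N χ (tr e θ) := fun χ => by
    obtain ⟨θ, h⟩ := exists_under N χ
    exact ⟨(tr e).symm θ, by rwa [Equiv.apply_symm_apply]⟩
  choose t ht using h0
  have hI : Nat.card ↥(Inn S) = Nat.card S := by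
    have h1 : N.map (au e) = Inn S := by
      have h2 := map_comap_eq_self (inn_le_range e)
      rwa [comap_inn e hc] at h2
    rw [← h1, card_map_of_injective (au_inj e hc), Nat.card_congr e.toEquiv]
  have hS : (Inn S).relIndex K * Nat.card S = Nat.card ↥K := by
    rw [← hI, ← Nat.card_congr (subgroupOfEquivOfLe ((inn_le_range e).trans hK)).toEquiv]
    exact index_mul_card _
  obtain ⟨f, h1, h2⟩ := RedB.exists_fam (fun χ χ' : IrrCharacter A => t χ' ∈ MulAction.orbit ↥K (t χ))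
    (fun _ _ h => MulAction.mem_orbit_symm.1 h) {χ | ¬ 3 ∣ charDegree (χ : A → ℂ)} ((Inn S).relIndex K)
    (fun χ _ => by
      have := Fintype.ofFinite ↥(MulAction.orbit ↥K (t χ))
      refine Nat.le_of_mul_le_mul_right ?_ (Nat.card_pos (α := S))
      have h1 : ∀ θ : IrrCharacter S, (MulAction.orbit ↥K θ).ncard * Nat.card ↥(MulAction.stabilizer ↥K θ) =
          Nat.card ↥K := fun θ => by rw [← MulAction.index_stabilizer, index_mul_card]
      have h2 : ∀ θ : ↥(MulAction.orbit ↥K (t χ)), Nat.card ↥(MulAction.stabilizer ↥K θ.1) =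
          Nat.card ↥(MulAction.stabilizer ↥K (t χ)) := fun θ => by
        have h3 := h1 θ
        rw [MulAction.orbit_eq_iff.2 θ.2, ← h1 (t χ)] at h3
        exact Nat.eq_of_mul_eq_mul_left ((Set.ncard_pos (Set.toFinite _)).2 ⟨_, θ.2⟩) h3
      have h3 := (Set.ncard_le_ncard (s := {y : IrrCharacter A | ¬ 3 ∣ charDegree (y : A → ℂ)} ∩
          {y | t y ∈ MulAction.orbit ↥K (t χ)})
        (t := ⋃ θ : ↥(MulAction.orbit ↥K (t χ)), {y | Over N y (tr e θ.1)})
        (fun y hy => Set.mem_iUnion.2 ⟨⟨t y, hy.2⟩, ht y⟩) (Set.toFinite _)).trans (Set.ncard_iUnion_le_of_fintype _)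
      refine (Nat.mul_le_mul_right _ h3).trans ?_
      rw [hS, ← h1 (t χ), Finset.sum_mul, ← Nat.card_coe_set_eq (MulAction.orbit ↥K (t χ)),
        Nat.card_eq_fintype_card (α := ↥(MulAction.orbit ↥K (t χ))), ← Finset.card_univ, ← smul_eq_mul Finset.univ.card]
      exact Finset.sum_le_card_nsmul _ _ _ fun θ _ => (card_over_mul e hc hK θ.1).trans (h2 θ).le) k h
  refine ⟨fun i => t (f i), fun i h3 => h1 i (h3.trans ?_), fun i j σ hσ h3 => h2 i j ⟨⟨σ, hσ⟩, h3⟩⟩
  have h4 := (over_dvd (ht (f i))).1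
  rwa [show charDegree ((tr e (t (f i)) : IrrCharacter ↥N) : ↥N → ℂ) = charDegree (t (f i) : S → ℂ) from
    deg_eq (by rw [tr_apply, map_one])] at h4

theorem conj_inj (hs : IsSimpleGroup S) (hab : ¬ IsMulCommutative S) : Function.Injective (MulAut.conj : S →* MulAut S) := by
  rw [injective_iff_map_eq_one]
  intro x hx
  have h2 : x ∈ center S := mem_center_iff.2 fun y => by
    have h4 : x * y * x⁻¹ = y := by simpa using DFunLike.congr_fun hx y
    rw [← h4, inv_mul_cancel_right, h4]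
  rcases hs.eq_bot_or_eq_top_of_normal (center S) inferInstance with h4 | h4
  · rwa [h4, mem_bot] at h2
  · exact absurd ⟨⟨fun a b => (mem_center_iff.1 (h4 ▸ mem_top b) a)⟩⟩ hab

/-- orbits under `K` give members of `A` -/
theorem le_k0_of_orbs (hM : IsPModular 3 M) (hm : AllM M S) (e : ↥N ≃* S) (h3 : ¬ 3 ∣ N.index)
    {K : Subgroup (MulAut S)} (hK : (au e).range ≤ K) {k : ℕ} {f : Fin k → IrrCharacter S}
    (h1 : ∀ i, ¬ 3 ∣ charDegree (f i : S → ℂ)) (h2 : ∀ i j, ∀ σ ∈ K, σ • f i = f j → i = j) : k ≤ k0 M A := by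
  refine (Fintype.card_fin k).ge.trans (orb' hM h3 (fun i => tr e (f i)) (fun i => (mem_tr hM e).2 (hm _ (h1 i)))
    fun i j h => ?_)
  obtain ⟨g, hg⟩ := gconj_iff.1 h
  rw [cj_tr, (tr e).apply_eq_iff_eq] at hg
  exact h2 i j _ (inv_mem (hK ⟨g, rfl⟩)) hg

end Au

/-! ### the adjoint group -/

/-- a `3'`-automorphism which centralises a Sylow `3`-subgroup is trivial -/
def Rig (S : Type) [Group S] : Prop :=
  ∀ (Q : Sylow 3 S) (σ : MulAut S), ¬ 3 ∣ orderOf σ → (∀ x ∈ (Q : Subgroup S), σ x = x) → σ = 1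

theorem rig_of_lie (hs : IsSimpleGroup S) (h : IsLieTypeChar 3 S) : Rig S :=
  have : Fact (Nat.Prime 3) := ⟨Nat.prime_three⟩
  fun Q σ h1 h2 => S4613.result 3 h σ h1 Q h2

/-- all characters of degree prime to `3` of an extension of index prime to `3` are members -/
theorem Rig.allM (h : Rig S) (hM : IsPModular 3 M) {A : Type} [Group A] [Finite A] {N : Subgroup A} [N.Normal]
    (e : ↥N ≃* S) (hc : centralizer (N : Set A) = ⊥) (h3 : ¬ 3 ∣ N.index) : AllM M A := fun χ hχ => by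
  have : Fact (Nat.Prime 3) := ⟨Nat.prime_three⟩
  obtain ⟨P⟩ : Nonempty (Sylow 3 A) := inferInstance
  refine mem_of_cent hM P (fun x hx h4 => au_inj e hc ?_) hχ
  rw [map_one]
  refine h ((P.subtype (sylow_le_of_index h3 P)).mapSurjective (f := e.toMonoidHom) e.surjective) _
    (fun h5 => h4 (h5.trans (orderOf_map_dvd _ x))) ?_
  rintro _ ⟨y, hy, rfl⟩
  refine (au_apply e x y).trans (congrArg e (Subtype.ext ?_))
  rw [MulAut.conjNormal_apply, ← hx y hy, mul_inv_cancel_right]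

theorem allM_of_lie (hM : IsPModular 3 M) (hs : IsSimpleGroup S) (hab : ¬ IsMulCommutative S) (h : IsLieTypeChar 3 S) :
    AllM M S := fun _ hχ => mem_of_lie (hM := hM) hab h hχ

/-- a group `Y` of automorphisms with at least `Q` characters of degree prime to `3` -/
structure AdY (Q : ℕ) (Y : Subgroup (MulAut S)) : Prop where
  inn : Inn S ≤ Y
  cop : ¬ 3 ∣ (Inn S).relIndex Y
  cnt : Q ≤ Nat.card {χ : IrrCharacter ↥Y // ¬ 3 ∣ charDegree (χ : ↥Y → ℂ)}

theorem card_pp_congr {A B : Type} [Group A] [Group B] (e : A ≃* B) :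
    Nat.card {χ : IrrCharacter A // ¬ 3 ∣ charDegree (χ : A → ℂ)} =
      Nat.card {χ : IrrCharacter B // ¬ 3 ∣ charDegree (χ : B → ℂ)} :=
  (Nat.card_congr ((tr e).subtypeEquiv fun χ => by
    rw [show charDegree ((tr e χ : IrrCharacter A) : A → ℂ) = charDegree (χ : B → ℂ) from
      deg_eq (by rw [tr_apply, map_one])])).symm

/-- from an abstract extension -/
theorem adY_of {A : Type} [Group A] [Finite A] {N : Subgroup A} [N.Normal] (e : ↥N ≃* S)
    (hc : centralizer (N : Set A) = ⊥) (h3 : ¬ 3 ∣ N.index) {Q : ℕ}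
    (h : Q ≤ Nat.card {χ : IrrCharacter A // ¬ 3 ∣ charDegree (χ : A → ℂ)}) : AdY Q (au e).range :=
  ⟨inn_le_range e, by rwa [relIndex_range e hc], by rwa [← card_pp_congr (MonoidHom.ofInjective (au_inj e hc))]⟩

/-- the socle of a group of automorphisms -/
noncomputable def innEquiv (hi : Function.Injective (MulAut.conj : S →* MulAut S)) {Y : Subgroup (MulAut S)}
    (hY : Inn S ≤ Y) : ↥((Inn S).subgroupOf Y) ≃* S :=
  (subgroupOfEquivOfLe hY).trans (MonoidHom.ofInjective hi).symm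

theorem conj_innEquiv (hi : Function.Injective (MulAut.conj : S →* MulAut S)) {Y : Subgroup (MulAut S)}
    (hY : Inn S ≤ Y) (n : ↥((Inn S).subgroupOf Y)) : MulAut.conj (innEquiv hi hY n) = (n.1 : MulAut S) :=
  congrArg Subtype.val ((MonoidHom.ofInjective hi).apply_symm_apply (subgroupOfEquivOfLe hY n))

theorem au_innEquiv (hi : Function.Injective (MulAut.conj : S →* MulAut S)) {Y : Subgroup (MulAut S)}
    (hY : Inn S ≤ Y) (g : ↥Y) : au (innEquiv hi hY) g = g := by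
  ext s
  obtain ⟨n, rfl⟩ := (innEquiv hi hY).surjective s
  refine hi ?_
  rw [au_apply, conj_innEquiv, MulAut.conjNormal_apply, coe_mul, coe_mul, coe_inv, ← conj_innEquiv hi hY n]
  ext w
  simp only [MulAut.conj_apply, MulAut.mul_apply, map_mul, map_inv, MulAut.apply_inv_self]

theorem range_au (hi : Function.Injective (MulAut.conj : S →* MulAut S)) {Y : Subgroup (MulAut S)}
    (hY : Inn S ≤ Y) : (au (innEquiv hi hY)).range = Y := by
  rw [show au (innEquiv hi hY) = Y.subtype from MonoidHom.ext (au_innEquiv hi hY), range_subtype]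

theorem cent_inn (hi : Function.Injective (MulAut.conj : S →* MulAut S)) {Y : Subgroup (MulAut S)}
    (hY : Inn S ≤ Y) : centralizer (((Inn S).subgroupOf Y : Subgroup ↥Y) : Set ↥Y) = ⊥ := by
  rw [eq_bot_iff]
  intro g hg
  refine Subtype.ext (MulEquiv.ext fun s => hi ?_)
  have h1 : MulAut.conj s * (g : MulAut S) = g * MulAut.conj s :=
    congrArg Subtype.val (hg ⟨MulAut.conj s, hY ⟨s, rfl⟩⟩ ⟨s, rfl⟩)
  ext w
  obtain ⟨w, rfl⟩ := (g : MulAut S).surjective w
  simpa using (DFunLike.congr_fun h1 w).symm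

variable {Q : ℕ} {Y : Subgroup (MulAut S)}

theorem AdY.k0 (h : AdY Q Y) (hM : IsPModular 3 M) (hi : Function.Injective (MulAut.conj : S →* MulAut S))
    (hr : Rig S) : Q ≤ k0 M ↥Y := by
  have : Finite (IrrCharacter ↥Y) := finite_irr
  have h1 := hr.allM hM (innEquiv hi h.inn) (cent_inn hi h.inn) h.cop
  exact h.cnt.trans (Nat.card_le_card_of_injective (fun χ => ⟨χ.1, h1 _ χ.2⟩) fun a b e =>
    Subtype.ext (Subtype.mk.inj e))

/-- the orbits of an overgroup `K` -/
theorem AdY.orbs (h : AdY Q Y) (hi : Function.Injective (MulAut.conj : S →* MulAut S)) {K : Subgroup (MulAut S)}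
    (hK : Y ≤ K) {k : ℕ} (hk : k * (Inn S).relIndex K < Q) :
    ∃ f : Fin (k + 1) → IrrCharacter S, (∀ i, ¬ 3 ∣ charDegree (f i : S → ℂ)) ∧
      ∀ i j, ∀ σ ∈ K, σ • f i = f j → i = j :=
  exists_orbs (innEquiv hi h.inn) (cent_inn hi h.inn) ((range_au hi h.inn).le.trans hK) (hk.trans_le h.cnt)

/-- ten members, from an overgroup `K` of `Y` and `A` -/
theorem AdY.ten_le (h : AdY Q Y) (hM : IsPModular 3 M) (hi : Function.Injective (MulAut.conj : S →* MulAut S))
    (hm : AllM M S) {A : Type} [Group A] [Finite A] {N : Subgroup A} [N.Normal] (e : ↥N ≃* S) (h3 : ¬ 3 ∣ N.index)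
    {K : Subgroup (MulAut S)} (hK : Y ≤ K) (hA : (au e).range ≤ K) (hk : 9 * (Inn S).relIndex K < Q) : 10 ≤ KZ.k0 M A :=
  let ⟨_, h1, h2⟩ := h.orbs hi hK hk
  le_k0_of_orbs hM hm e h3 hA h1 h2

theorem AdY.congr {T : Type} [Group T] [Finite T] (e : S ≃* T) (h : AdY Q Y) :
    AdY Q (Y.map (MulAut.congr e).toMonoidHom) ∧
      (Inn T).relIndex (Y.map (MulAut.congr e).toMonoidHom) = (Inn S).relIndex Y := by
  have h1 : (Inn S).map (MulAut.congr e).toMonoidHom = Inn T := by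
    ext σ
    constructor
    · rintro ⟨_, ⟨s, rfl⟩, rfl⟩
      exact ⟨e s, (congr_conj e s).symm⟩
    · rintro ⟨t, rfl⟩
      obtain ⟨s, rfl⟩ := e.surjective t
      exact ⟨_, ⟨s, rfl⟩, congr_conj e s⟩
  have h2 : (Inn T).relIndex (Y.map (MulAut.congr e).toMonoidHom) = (Inn S).relIndex Y := by
    rw [← h1, relIndex_map_map_of_injective _ _ (MulAut.congr e).injective]
  exact ⟨⟨h1 ▸ map_mono h.inn, h2 ▸ h.cop,
    by rw [← card_pp_congr (Y.equivMapOfInjective _ (MulAut.congr e).injective)]; exact h.cnt⟩, h2⟩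

/-! ### the rows -/

/-- the lower bound for the indices prime to `3` -/
def Lo3 (M : Ideal AlgInt) (S : Type) [Group S] : Prop :=
  ∀ (A : Type) [Group A] [Finite A] (N : Subgroup A) [N.Normal], (↥N ≃* S) → centralizer (N : Set A) = ⊥ →
    ¬ 3 ∣ N.index → 10 ≤ k0 M A

/-- it is enough to look at the subgroups of the automorphism group -/
theorem lo3_of_sub (hM : IsPModular 3 M)
    (h : ∀ B : Subgroup (MulAut S), Inn S ≤ B → ¬ 3 ∣ (Inn S).relIndex B → 10 ≤ k0 M ↥B) : Lo3 M S :=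
  fun _ _ _ _ _ e hc h3 => by
    rw [Res.k0_congr hM (MonoidHom.ofInjective (au_inj e hc))]
    exact h _ (inn_le_range e) (by rwa [relIndex_range e hc])

theorem AdY.lo3 (h : AdY Q Y) (hM : IsPModular 3 M) (hi : Function.Injective (MulAut.conj : S →* MulAut S))
    (hm : AllM M S) (hk : 9 * Nat.card (Out S) < Q) : Lo3 M S := fun _ _ _ _ _ e _ h3 =>
  h.ten_le hM hi hm e h3 (K := ⊤) le_top le_top (by rwa [relIndex_top_right])

theorem loAt_of (hM : IsPModular 3 M) (h : Lo3 M S) (h4 : P4 M S) : LoAt M S := fun A _ _ N hA ⟨e⟩ hi _ _ => by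
  have := hA.normal
  rcases hi with hi | hi
  · exact h A N e hA.cent hi
  · exact le_trans (by norm_num) (twelve_le hM hA.cent hi (p4_congr hM e h4))

theorem big_congr {T : Type} [Group T] (e : S ≃* T) {n : ℕ} (h : Big n T) : Big n S := by
  have : Fact (Nat.Prime 3) := ⟨Nat.prime_three⟩
  have : Finite T := Finite.of_equiv _ e.toEquiv
  obtain ⟨U, Z, _, π, h1, h2⟩ := h
  let U' := U.mapSurjective (f := e.symm.toMonoidHom) e.symm.surjective
  let φ : ↥(U : Subgroup T) ≃* ↥(U' : Subgroup S) :=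
    (U : Subgroup T).equivMapOfInjective e.symm.toMonoidHom e.symm.injective
  refine ⟨U', Z, _, π.comp φ.symm.toMonoidHom, h1, h2.trans (le_of_eq ?_)⟩
  rw [MonoidHom.range_comp, (MonoidHom.range_eq_top (f := φ.symm.toMonoidHom)).2 φ.symm.surjective,
    ← MonoidHom.range_eq_map]

theorem upAt_of_big (ho : OC3 S) (hb : Big 81 S ∨ (Big 27 S ∧ ¬ 3 ∣ Nat.card (Out S))) : UpAt M S :=
  fun A _ _ N hA ⟨e⟩ P hP => by
  have := hA.normal
  rcases hb with h1 | ⟨h1, h2⟩
  · exact absurd (nab_ge hA.cent (ho.congr e) (big_congr e h1) P) (by omega)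
  · exact absurd (nab_ge' (fun h3 => h2 (h3.trans (card_out_congr e ▸ index_dvd_out hA.cent))) (big_congr e h1) P)
      (by omega)

/-- all rows from `UpAt`, `Lo3` and `Tri` -/
theorem at_of (hM : IsPModular 3 M) (hm : AllM M S) (up : UpAt M S) (lo : Lo3 M S) (ht : Tri S) : At M S where
  up := up
  lo := loAt_of hM lo (ht.p4 hM hm)
  two := (ht.duo.invA hm ⊥ IsPGroup.of_bot).two
  inv X hX := .inl (ht.duo.invA hm X hX)

/-- all rows from `UpAt`, `Lo3` and `Duo` if `3` does not divide the order of `Out S` -/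
theorem at_of_duo (hM : IsPModular 3 M) (hm : AllM M S) (up : UpAt M S) (lo : Lo3 M S) (ho : ¬ 3 ∣ Nat.card (Out S))
    (ht : Duo S) : At M S where
  up := up
  lo := loAt_of hM lo (p4_of_out ho)
  two := (ht.invA hm ⊥ IsPGroup.of_bot).two
  inv X hX := .inl (ht.invA hm X hX)

/-- **the generic case** -/
theorem at_gen (hM : IsPModular 3 M) (hs : IsSimpleGroup S) (hab : ¬ IsMulCommutative S) (hL : IsLieTypeChar 3 S)
    (ho : OC3 S) (hb : Big 81 S ∨ (Big 27 S ∧ ¬ 3 ∣ Nat.card (Out S))) (h : AdY Q Y) (hk : 9 * Nat.card (Out S) < Q)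
    (ht : Tri S) : At M S :=
  have hm := allM_of_lie hM hs hab hL
  at_of hM hm (upAt_of_big ho hb) (h.lo3 hM (conj_inj hs hab) hm hk) ht

/-- a `3`-element with a small centraliser -/
def Up9 (S : Type) [Group S] : Prop :=
  ∃ (x : S) (k : ℕ), orderOf x = 3 ^ k ∧ ¬ 27 ∣ Nat.card ↥(centralizer ({x} : Set S))

theorem Up9.k0 (h : Up9 S) (hM : IsPModular 3 M) {A : Type} [Group A] [Finite A] {N : Subgroup A} [N.Normal]
    (e : ↥N ≃* S) (h3 : ¬ 3 ∣ N.index) : KZ.k0 M A ≤ 9 := by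
  obtain ⟨x, k, h1, h2⟩ := h
  obtain ⟨n, rfl⟩ := e.surjective x
  refine upx hM (x := (n : A)) (k := k) (by rw [← h1, e.orderOf_eq, orderOf_coe]) fun h4 => h2 ?_
  have h5 := (N.subgroupOf (centralizer ({(n : A)} : Set A))).index_mul_card
  have h6 : ¬ 3 ∣ (N.subgroupOf (centralizer ({(n : A)} : Set A))).index :=
    fun h6 => h3 (h6.trans (relIndex_dvd_index_of_normal N _))
  rw [← h5] at h4
  refine ((Nat.Coprime.pow_left 3 ((Nat.Prime.coprime_iff_not_dvd Nat.prime_three).2 h6)).dvd_of_dvd_mul_left h4).trans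
    (card_dvd_of_injective (α := ↥(N.subgroupOf (centralizer ({(n : A)} : Set A))))
      (H := ↥(centralizer ({e n} : Set S)))
      { toFun := fun y => ⟨e ⟨y.1.1, y.2⟩, mem_centralizer_singleton_iff.2 (by
          rw [← map_mul, ← map_mul]
          exact congrArg e (Subtype.ext (mem_centralizer_singleton_iff.1 y.1.2)))⟩
        map_one' := Subtype.ext (map_one e)
        map_mul' := fun a b => Subtype.ext (map_mul e ⟨a.1.1, a.2⟩ ⟨b.1.1, b.2⟩) } fun a b h7 => ?_)
  exact Subtype.ext (Subtype.ext (congrArg (fun z : ↥N => (z : A)) (e.injective (congrArg Subtype.val h7))))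

/-- **the case `nab = 9`** -/
theorem at_nine (hM : IsPModular 3 M) (hm : AllM M S) (ho : ¬ 3 ∣ Nat.card (Out S)) (h9 : ∀ U : Sylow 3 S, nab U ≤ 9)
    (hu : Up9 S) (ht : Duo S) : At M S := by
  have : Fact (Nat.Prime 3) := ⟨Nat.prime_three⟩
  have h1 : ∀ (A : Type) [Group A] [Finite A] (N : Subgroup A), AS A N → (↥N ≃* S) → ¬ 3 ∣ N.index :=
    fun A _ _ N hA e h3 => have := hA.normal; ho (h3.trans (card_out_congr e ▸ index_dvd_out hA.cent))
  refine ⟨fun A _ _ N hA ⟨e⟩ _ _ => have := hA.normal; hu.k0 hM e (h1 A N hA e), fun A _ _ N hA ⟨e⟩ _ P hP => ?_,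
    (ht.invA hm ⊥ IsPGroup.of_bot).two, fun X hX => .inl (ht.invA hm X hX)⟩
  obtain ⟨U⟩ : Nonempty (Sylow 3 S) := inferInstance
  obtain ⟨V⟩ : Nonempty (Sylow 3 ↥N) := inferInstance
  have h2 := h9 U
  rw [← nab_equiv e V U, nab_sub (h1 A N hA e) P V] at h2
  omega

end Cfsg.Agent.KZ.Ch3
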