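import Cfsg.Agent.KZ.Ch3.Defs
import Cfsg.Agent.S2601
import Cfsg.Agent.S2602
import Cfsg.Agent.S2603
import Cfsg.Agent.S2604
import Cfsg.Agent.S2606
import Cfsg.Agent.S2608
import Cfsg.Agent.S0814
import Cfsg.Agent.H933.SubPSp
import Cfsg.Agent.H837.RC.KilledP2
import Cfsg.Agent.H205.Abs

/-!
# KZ, defining characteristic `3`, classical groups: the outer automorphism groups (helper10)

* `OD S c f` : `Out S` has order `c f` and an element of order divisible by `f`; `od_psl`, `od_psl2`, `od_psu`, `od_psp`,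
  `od_odd`, `od_plus`, `od_minus`;
* `oc_*` : `OC3`; `nine_*` : `9 |Out S| < Q`; `not3_*` : `q = 3`;
* `out_psl43`, `out_psu43`.
-/

set_option autoImplicit false
set_option linter.unusedSectionVars false

namespace Cfsg.Agent.KZ.Ch3

open Cfsg Cfsg.Agent.KZ.Ch3X Matrix

/-- `Out S` has order `c f` and an element of order divisible by `f` -/
def OD (S : Type) [Group S] (c f : ℕ) : Prop := Nat.card (Out S) = c * f ∧ ∃ x : Out S, f ∣ orderOf x

section Abs

variable {S : Type} [Group S] {c f : ℕ}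

theorem OD.oc (h : OD S c f) (hf : 0 < f) (hc : ¬ 3 ∣ c) : OC3 S := by
  obtain ⟨h, x, d, hd⟩ := h
  have : Finite (Out S) := Nat.finite_of_card_ne_zero (h ▸ mul_ne_zero (fun e => hc (e ▸ dvd_zero 3)) hf.ne')
  have h0 : ¬ 3 ∣ (Subgroup.zpowers x).index := fun h3 => hc (h3.trans (by
    have h1 := (Subgroup.zpowers x).card_mul_index
    rw [Nat.card_zpowers, h, hd, mul_assoc, mul_comm c] at h1
    exact Dvd.intro_left d (Nat.eq_of_mul_eq_mul_left hf h1)))
  intro X hX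
  have : Fact (Nat.Prime 3) := ⟨Nat.prime_three⟩
  obtain ⟨Q⟩ : Nonempty (Sylow 3 ↥(Subgroup.zpowers x)) := inferInstance
  have h1 : ¬ 3 ∣ ((Q : Subgroup ↥(Subgroup.zpowers x)).map (Subgroup.zpowers x).subtype).index := by
    rw [Subgroup.index_map_subtype, Nat.prime_three.dvd_mul]
    exact fun h2 => h2.elim Q.not_dvd_index h0
  obtain ⟨R, hR⟩ := hX.exists_le_sylow
  have h2 : IsCyclic ↥((Q.isPGroup'.map _).toSylow h1 : Subgroup (Out S)) :=
    Subgroup.isCyclic_of_le (H' := Subgroup.zpowers x) (Subgroup.map_subtype_le _)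
  have h3 : IsCyclic ↥(R : Subgroup (Out S)) :=
    isCyclic_of_surjective _ (Sylow.equiv ((Q.isPGroup'.map _).toSylow h1) R).surjective
  exact Subgroup.isCyclic_of_le hR

theorem card_mult (n : ℕ) : Nat.card (Multiplicative (ZMod n)) = n := by
  rw [Nat.card_congr Multiplicative.toAdd, Nat.card_zmod]

theorem card_of_surj {A B : Type*} [Group A] [Group B] (φ : A →* B) (hφ : Function.Surjective φ) :
    Nat.card A = Nat.card φ.ker * Nat.card B := by
  have h := φ.ker.card_mul_index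
  rw [Subgroup.index_ker, MonoidHom.range_eq_top.2 hφ, Subgroup.card_top] at h
  exact h.symm

theorem exists_dvd {A : Type*} [Group A] (φ : A →* Multiplicative (ZMod f)) (hφ : Function.Surjective φ) :
    ∃ x : A, f ∣ orderOf x := by
  obtain ⟨x, hx⟩ := hφ (Multiplicative.ofAdd 1)
  refine ⟨x, Dvd.dvd.trans ?_ (orderOf_map_dvd φ x)⟩
  rw [hx, orderOf_ofAdd_eq_addOrderOf, ZMod.addOrderOf_one]

/-- a direct product with a cyclic group -/
theorem od_of_prod {H : Type} [Group H] (e : Out S ≃* H × Multiplicative (ZMod f)) : OD S (Nat.card H) f :=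
  ⟨by rw [Nat.card_congr e.toEquiv, Nat.card_prod, card_mult],
    exists_dvd ((MonoidHom.snd _ _).comp e.toMonoidHom) (Prod.snd_surjective.comp e.surjective)⟩

theorem od_of_two (e : Out S ≃* Multiplicative (ZMod 2 × ZMod f)) : OD S 2 f := by
  have h := od_of_prod (e.trans (MulEquiv.prodMultiplicative _ _))
  rwa [card_mult] at h

theorem OD.half (h : OD S c (2 * f)) : OD S (c * 2) f :=
  ⟨by rw [h.1, mul_assoc], h.2.imp fun _ hx => (dvd_mul_left f 2).trans hx⟩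

theorem card_D8 : Nat.card (DihedralGroup 4) = 8 := DihedralGroup.nat_card

end Abs

/-! ### arithmetic -/

theorem le_pow_of {a b f₀ : ℕ} (hb : 2 ≤ b) (h0 : 0 < f₀) (h : a * f₀ < b ^ f₀) {f : ℕ} (hf : f₀ ≤ f) : a * f < b ^ f := by
  induction f, hf using Nat.le_induction with
  | base => exact h
  | succ f hf ih =>
    have h1 : a ≤ a * f := Nat.le_mul_of_pos_right a (by omega)
    have h2 : b ^ f * 2 ≤ b ^ f * b := Nat.mul_le_mul_left _ hb
    rw [pow_succ, mul_add, mul_one]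
    omega

theorem pow_pow_le (f : ℕ) {k n : ℕ} (h : k ≤ n) : (3 ^ k) ^ f ≤ (3 ^ f) ^ n := by
  rw [← pow_mul, ← pow_mul, mul_comm f]
  exact Nat.pow_le_pow_right (by norm_num) (Nat.mul_le_mul_right f h)

theorem not3_sub {f : ℕ} (hf : 1 ≤ f) (n : ℕ) : ¬ 3 ∣ Nat.gcd n (3 ^ f - 1) := fun h => by
  have h1 := h.trans (Nat.gcd_dvd_right _ _)
  have h2 : 3 ∣ 3 ^ f := dvd_pow_self 3 (by omega)
  have h3 : 0 < 3 ^ f := by positivity
  omega

theorem not3_add {f : ℕ} (hf : 1 ≤ f) (n : ℕ) : ¬ 3 ∣ Nat.gcd n (3 ^ f + 1) := fun h => by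
  have h1 := h.trans (Nat.gcd_dvd_right _ _)
  have h2 : 3 ∣ 3 ^ f := dvd_pow_self 3 (by omega)
  omega

theorem gcd_two_sub (f : ℕ) : Nat.gcd 2 (3 ^ f - 1) = 2 := by
  refine Nat.gcd_eq_left ?_
  have h1 : Odd (3 ^ f) := Odd.pow (by decide)
  obtain ⟨k, hk⟩ := h1
  omega

theorem gcd_three {x : ℕ} (h : ¬ 3 ∣ Nat.gcd 3 x) : Nat.gcd 3 x = 1 :=
  ((Nat.dvd_prime Nat.prime_three).1 (Nat.gcd_dvd_left 3 x)).resolve_right fun e => h (e.symm ▸ dvd_rfl)

theorem eq_one_of_three {f : ℕ} (h : 3 ^ f = 3) : f = 1 :=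
  Nat.pow_right_injective (a := 3) (by norm_num) (h.trans (pow_one 3).symm)

/-! ### the orders -/

section Ord

variable {F : Type} [Field F] [Fintype F] {f n m q : ℕ}

theorem od_psl (hf : 1 ≤ f) (hF : Fintype.card F = 3 ^ f) (hn : 3 ≤ n) :
    OD (ProjectiveSpecialLinearGroup (Fin n) F) (Nat.gcd n (3 ^ f - 1) * 2) f := by
  have : Fact (Nat.Prime 3) := ⟨Nat.prime_three⟩
  obtain ⟨φ, h1, -, h2⟩ := S2601.result hf hF hn
  refine ⟨?_, exists_dvd ((MonoidHom.fst _ _).comp ((MulEquiv.prodMultiplicative _ _).toMonoidHom.comp φ))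
    (Prod.fst_surjective.comp ((MulEquiv.prodMultiplicative _ _).surjective.comp h1))⟩
  rw [card_of_surj φ h1, h2, Nat.card_congr (MulEquiv.prodMultiplicative _ _).toEquiv, Nat.card_prod, card_mult,
    card_mult]
  ring

theorem od_psl2 (hf : 1 ≤ f) (hF : Fintype.card F = 3 ^ f) (h4 : 4 ≤ 3 ^ f) :
    OD (ProjectiveSpecialLinearGroup (Fin 2) F) 2 f := by
  have : Fact (Nat.Prime 3) := ⟨Nat.prime_three⟩
  obtain ⟨φ, h1, -, h2⟩ := S2602.result hf hF h4
  exact ⟨by rw [card_of_surj φ h1, h2, card_mult, gcd_two_sub], exists_dvd φ h1⟩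

theorem od_psu (hf : 1 ≤ f) (hF : Fintype.card F = (3 ^ f) ^ 2) (hn : 3 ≤ n) :
    OD (PSU n F (3 ^ f)) (Nat.gcd n (3 ^ f + 1) * 2) f := by
  have : Fact (Nat.Prime 3) := ⟨Nat.prime_three⟩
  obtain ⟨φ, h1, -, h2⟩ := S2603.result hf rfl hF hn fun h => by
    have h2 : 3 ∣ 3 ^ f := dvd_pow_self 3 (by omega)
    omega
  exact OD.half ⟨by rw [card_of_surj φ h1, h2, card_mult], exists_dvd φ h1⟩

theorem od_psp (hf : 1 ≤ f) (hF : Fintype.card F = 3 ^ f) (hm : 2 ≤ m) : OD (PSp m F) 2 f := by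
  have : Fact (Nat.Prime 3) := ⟨Nat.prime_three⟩
  have h3 : 3 ≤ 3 ^ f := Nat.le_self_pow (by omega) 3
  have h1 := S0814.result (F := F) 3 f hf hF m hm fun _ => h3
  rw [H933.SubPSp.card_out (S0270.result m hm fun _ => hF ▸ h3) (H837.RC.KilledP2.psp_nonab hm fun _ => hF ▸ h3),
    if_neg (by omega), one_mul, gcd_two_sub] at h1
  obtain ⟨σ, hσ⟩ := H933.SubField.exists_orderOf hf hF
  obtain ⟨x, hx⟩ := H933.SubPSp.exists_out (F := F) (m := m) (by omega) σ
  exact ⟨Nat.eq_of_mul_eq_mul_right Nat.card_pos h1, x, hσ ▸ hx⟩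

theorem od_odd (hf : 1 ≤ f) (hF : Fintype.card F = 3 ^ f) (hm : 3 ≤ m) : OD (POmega F (quadFormOdd m F)) 2 f := by
  have : Fact (Nat.Prime 3) := ⟨Nat.prime_three⟩
  obtain ⟨e⟩ := S2604.result hf hF (by decide) hm
  exact od_of_two e

theorem od_plus (hf : 1 ≤ f) (hF : Fintype.card F = 3 ^ f) (hm : 5 ≤ m) :
    OD (POmega F (quadFormPlus m F)) 4 f ∨ OD (POmega F (quadFormPlus m F)) 8 f := by
  have : Fact (Nat.Prime 3) := ⟨Nat.prime_three⟩
  have h := S2608.result hf hF (by decide) (m := m) (by omega)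
  rw [if_neg (by omega)] at h
  split_ifs at h
  · obtain ⟨e⟩ := h
    have h1 := od_of_prod (e.trans ((AddEquiv.toMultiplicative AddEquiv.prodAssoc.symm).trans
      (MulEquiv.prodMultiplicative (ZMod 2 × ZMod 2) (ZMod f))))
    rw [Nat.card_congr Multiplicative.toAdd, Nat.card_prod, Nat.card_zmod] at h1
    exact .inl h1
  · obtain ⟨e⟩ := h
    exact .inr (card_D8 ▸ od_of_prod e)

/-- `Out (PΩ₈⁺(q))` -/
theorem od_plus4 (hf : 1 ≤ f) (hF : Fintype.card F = 3 ^ f) : OD (POmega F (quadFormPlus 4 F)) 24 f := by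
  have : Fact (Nat.Prime 3) := ⟨Nat.prime_three⟩
  have h := S2608.result hf hF (by decide) (m := 4) le_rfl
  rw [if_pos rfl] at h
  obtain ⟨e⟩ := h
  have h1 := od_of_prod e
  rwa [Nat.card_perm, Nat.card_eq_fintype_card, Fintype.card_fin] at h1

theorem od_minus (hf : 1 ≤ f) (hF : Fintype.card F = 3 ^ f) (hm : 4 ≤ m) {a b : F}
    (hab : ∀ z₁ z₂ : F, z₁ ^ 2 + a * z₁ * z₂ + b * z₂ ^ 2 = 0 → z₁ = 0 ∧ z₂ = 0) :
    OD (POmega F (quadFormMinus (m - 1) F a b)) 4 f ∨ OD (POmega F (quadFormMinus (m - 1) F a b)) 8 f := by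
  have : Fact (Nat.Prime 3) := ⟨Nat.prime_three⟩
  have h := S2606.result hf hF (by decide) hm a b hab
  split_ifs at h
  · obtain ⟨e⟩ := h
    exact .inr (card_D8 ▸ od_of_prod e)
  · obtain ⟨e⟩ := h
    exact .inl (od_of_two e).half

end Ord

variable {F : Type} [Field F] [Fintype F] [CharP F 3] {n m q : ℕ}

variable (F) in
theorem exists_exp : ∃ f, 1 ≤ f ∧ Fintype.card F = 3 ^ f := by
  have : Fact (Nat.Prime 3) := ⟨Nat.prime_three⟩
  obtain ⟨⟨f, hf⟩, -, h⟩ := FiniteField.card F 3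
  exact ⟨f, hf, h⟩

theorem exists_exp2 (hF : Fintype.card F = q ^ 2) : ∃ f, 1 ≤ f ∧ q = 3 ^ f := by
  obtain ⟨e, he, h⟩ := exists_exp F
  obtain ⟨f, -, h1⟩ := (Nat.dvd_prime_pow Nat.prime_three).1 (show q ∣ 3 ^ e from h ▸ hF ▸ dvd_pow_self q two_ne_zero)
  refine ⟨f, Nat.pos_of_ne_zero fun h2 => ?_, h1⟩
  have h3 : 1 < Fintype.card F := Fintype.one_lt_card
  rw [hF, h1, h2] at h3
  omega

/-! ### the `3`-subgroups of `Out S` are cyclic -/

theorem oc_psl (hn : 2 ≤ n) (h4 : n = 2 → 4 ≤ Fintype.card F) : OC3 (ProjectiveSpecialLinearGroup (Fin n) F) := by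
  obtain ⟨f, hf, hF⟩ := exists_exp F
  rcases hn.eq_or_lt with rfl | hn
  · exact (od_psl2 hf hF (hF ▸ h4 rfl)).oc hf (by decide)
  · exact (od_psl hf hF hn).oc hf fun h => (Nat.prime_three.dvd_mul.1 h).elim (not3_sub hf n) (by decide)

theorem oc_psu (hF : Fintype.card F = q ^ 2) (hn : 3 ≤ n) : OC3 (PSU n F q) := by
  obtain ⟨f, hf, rfl⟩ := exists_exp2 hF
  exact (od_psu hf hF hn).oc hf fun h => (Nat.prime_three.dvd_mul.1 h).elim (not3_add hf n) (by decide)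

theorem oc_psp (hm : 2 ≤ m) : OC3 (PSp m F) := by
  obtain ⟨f, hf, hF⟩ := exists_exp F
  exact (od_psp hf hF hm).oc hf (by decide)

theorem oc_odd (hm : 3 ≤ m) : OC3 (POmega F (quadFormOdd m F)) := by
  obtain ⟨f, hf, hF⟩ := exists_exp F
  exact (od_odd hf hF hm).oc hf (by decide)

theorem oc_plus (hm : 5 ≤ m) : OC3 (POmega F (quadFormPlus m F)) := by
  obtain ⟨f, hf, hF⟩ := exists_exp F
  exact (od_plus hf hF hm).elim (fun h => h.oc hf (by decide)) fun h => h.oc hf (by decide)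

theorem oc_minus (hm : 4 ≤ m) {a b : F} (hab : ∀ z₁ z₂ : F, z₁ ^ 2 + a * z₁ * z₂ + b * z₂ ^ 2 = 0 → z₁ = 0 ∧ z₂ = 0) :
    OC3 (POmega F (quadFormMinus (m - 1) F a b)) := by
  obtain ⟨f, hf, hF⟩ := exists_exp F
  exact (od_minus hf hF hm hab).elim (fun h => h.oc hf (by decide)) fun h => h.oc hf (by decide)

/-! ### `9 |Out S| < Q` -/

theorem nine_psl (hn : 3 ≤ n) (h : ¬ (Fintype.card F = 3 ∧ n ≤ 4)) :
    9 * Nat.card (Out (ProjectiveSpecialLinearGroup (Fin n) F)) < Fintype.card F ^ (n - 1) := by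
  obtain ⟨f, hf, hF⟩ := exists_exp F
  rw [(od_psl hf hF hn).1, hF]
  rcases hf.eq_or_lt with rfl | hf2
  · have h1 : Nat.gcd n (3 ^ 1 - 1) ≤ 2 := Nat.gcd_le_right _ (by norm_num)
    have h2 : 3 ^ 4 ≤ (3 ^ 1) ^ (n - 1) := Nat.pow_le_pow_right (by norm_num) (by
      by_contra h3
      exact h ⟨hF, by omega⟩)
    omega
  · have h1 := le_pow_of (a := 18) (b := 3 ^ 2) (f₀ := 2) (by norm_num) two_pos (by norm_num) hf2
    rcases hn.eq_or_lt with rfl | hn4
    · rw [gcd_three (not3_sub hf 3)]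
      have h2 := pow_pow_le f (k := 2) (n := 3 - 1) le_rfl
      omega
    · have h0 : 3 ≤ 3 ^ f := Nat.le_self_pow (by omega) 3
      have h2 : Nat.gcd n (3 ^ f - 1) ≤ 3 ^ f := (Nat.gcd_le_right _ (by omega)).trans (Nat.sub_le _ _)
      have h3 := pow_pow_le f (k := 2) (n := n - 2) (by omega)
      calc 9 * (Nat.gcd n (3 ^ f - 1) * 2 * f) = 18 * f * Nat.gcd n (3 ^ f - 1) := by ring
        _ ≤ 18 * f * 3 ^ f := Nat.mul_le_mul_left _ h2
        _ < (3 ^ f) ^ (n - 2) * 3 ^ f := Nat.mul_lt_mul_of_pos_right (h1.trans_le h3) (by omega)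
        _ = _ := by rw [← pow_succ, show n - 2 + 1 = n - 1 by omega]

theorem nine_psl2 (h : 81 ≤ Fintype.card F) :
    9 * Nat.card (Out (ProjectiveSpecialLinearGroup (Fin 2) F)) < Fintype.card F := by
  obtain ⟨f, hf, hF⟩ := exists_exp F
  rw [hF] at h
  rw [(od_psl2 hf hF (by omega)).1, hF]
  have h1 := le_pow_of (a := 18) (b := 3) (f₀ := 4) (by norm_num) (by norm_num) (by norm_num)
    ((Nat.pow_le_pow_iff_right (by norm_num : 1 < 3)).1 (show 3 ^ 4 ≤ 3 ^ f from h))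
  omega

theorem nine_psu (hF : Fintype.card F = q ^ 2) (hn : 3 ≤ n) (h : ¬ (q = 3 ∧ n ≤ 4)) :
    9 * Nat.card (Out (PSU n F q)) < q ^ (n - 1) := by
  obtain ⟨f, hf, rfl⟩ := exists_exp2 hF
  rw [(od_psu hf hF hn).1]
  rcases hf.eq_or_lt with rfl | hf2
  · have h1 : Nat.gcd n (3 ^ 1 + 1) ≤ 4 := Nat.gcd_le_right _ (by norm_num)
    have h2 : 3 ^ 4 ≤ (3 ^ 1) ^ (n - 1) := Nat.pow_le_pow_right (by norm_num) (by
      by_contra h3
      exact h ⟨rfl, by omega⟩)
    omega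
  · have h1 := le_pow_of (a := 36) (b := 3 ^ 2) (f₀ := 2) (by norm_num) two_pos (by norm_num) hf2
    rcases hn.eq_or_lt with rfl | hn4
    · rw [gcd_three (not3_add hf 3)]
      have h2 := pow_pow_le f (k := 2) (n := 3 - 1) le_rfl
      omega
    · have h0 : 3 ≤ 3 ^ f := Nat.le_self_pow (by omega) 3
      have h2 : Nat.gcd n (3 ^ f + 1) ≤ 2 * 3 ^ f := (Nat.gcd_le_right _ (by omega)).trans (by omega)
      have h3 := pow_pow_le f (k := 2) (n := n - 2) (by omega)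
      calc 9 * (Nat.gcd n (3 ^ f + 1) * 2 * f) = 18 * f * Nat.gcd n (3 ^ f + 1) := by ring
        _ ≤ 18 * f * (2 * 3 ^ f) := Nat.mul_le_mul_left _ h2
        _ = 36 * f * 3 ^ f := by ring
        _ < (3 ^ f) ^ (n - 2) * 3 ^ f := Nat.mul_lt_mul_of_pos_right (h1.trans_le h3) (by omega)
        _ = _ := by rw [← pow_succ, show n - 2 + 1 = n - 1 by omega]

theorem nine_psp (hm : 2 ≤ m) (h : ¬ (Fintype.card F = 3 ∧ m = 2)) :
    9 * Nat.card (Out (PSp m F)) < Fintype.card F ^ m := by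
  obtain ⟨f, hf, hF⟩ := exists_exp F
  rw [(od_psp hf hF hm).1, hF]
  rcases hf.eq_or_lt with rfl | hf2
  · have h2 : 3 ^ 3 ≤ (3 ^ 1) ^ m := Nat.pow_le_pow_right (by norm_num) (by
      by_contra h3
      exact h ⟨hF, by omega⟩)
    omega
  · have h1 := le_pow_of (a := 18) (b := 3 ^ 2) (f₀ := 2) (by norm_num) two_pos (by norm_num) hf2
    have h2 := pow_pow_le f hm
    omega

theorem nine_odd (hm : 3 ≤ m) : 9 * Nat.card (Out (POmega F (quadFormOdd m F))) < Fintype.card F ^ m := by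
  obtain ⟨f, hf, hF⟩ := exists_exp F
  rw [(od_odd hf hF hm).1, hF]
  have h1 := le_pow_of (a := 18) (b := 3 ^ 3) (f₀ := 1) (by norm_num) one_pos (by norm_num) hf
  have h2 := pow_pow_le f hm
  omega

theorem nine_plus (hm : 5 ≤ m) : 9 * Nat.card (Out (POmega F (quadFormPlus m F))) < Fintype.card F ^ m := by
  obtain ⟨f, hf, hF⟩ := exists_exp F
  have h1 := le_pow_of (a := 72) (b := 3 ^ 5) (f₀ := 1) (by norm_num) one_pos (by norm_num) hf
  have h2 := pow_pow_le f hm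
  rcases od_plus hf hF hm with h | h
  · rw [h.1, hF]
    omega
  · rw [h.1, hF]
    omega

theorem nine_minus (hm : 4 ≤ m) {a b : F}
    (hab : ∀ z₁ z₂ : F, z₁ ^ 2 + a * z₁ * z₂ + b * z₂ ^ 2 = 0 → z₁ = 0 ∧ z₂ = 0) :
    9 * Nat.card (Out (POmega F (quadFormMinus (m - 1) F a b))) < Fintype.card F ^ m := by
  obtain ⟨f, hf, hF⟩ := exists_exp F
  have h1 := le_pow_of (a := 72) (b := 3 ^ 4) (f₀ := 1) (by norm_num) one_pos (by norm_num) hf
  have h2 := pow_pow_le f hm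
  rcases od_minus hf hF hm hab with h | h
  · rw [h.1, hF]
    omega
  · rw [h.1, hF]
    omega

/-! ### the field with three elements -/

omit [CharP F 3]

theorem not3_psl (hF : Fintype.card F = 3) (hn : 3 ≤ n) :
    ¬ 3 ∣ Nat.card (Out (ProjectiveSpecialLinearGroup (Fin n) F)) := by
  rw [(od_psl le_rfl hF hn).1, mul_one]
  exact fun h => (Nat.prime_three.dvd_mul.1 h).elim (not3_sub le_rfl n) (by decide)

theorem not3_psu (hF : Fintype.card F = 3 ^ 2) (hn : 3 ≤ n) : ¬ 3 ∣ Nat.card (Out (PSU n F 3)) := by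
  have h1 : Nat.card (Out (PSU n F 3)) = _ := (od_psu le_rfl hF hn).1
  rw [h1, mul_one]
  exact fun h => (Nat.prime_three.dvd_mul.1 h).elim (not3_add le_rfl n) (by decide)

theorem not3_psp (hF : Fintype.card F = 3) (hm : 2 ≤ m) : ¬ 3 ∣ Nat.card (Out (PSp m F)) := by
  rw [(od_psp le_rfl hF hm).1]
  decide

theorem not3_odd (hF : Fintype.card F = 3) (hm : 3 ≤ m) : ¬ 3 ∣ Nat.card (Out (POmega F (quadFormOdd m F))) := by
  rw [(od_odd le_rfl hF hm).1]
  decide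

theorem not3_plus (hF : Fintype.card F = 3) (hm : 5 ≤ m) : ¬ 3 ∣ Nat.card (Out (POmega F (quadFormPlus m F))) := by
  rcases od_plus le_rfl hF hm with h | h
  · rw [h.1]
    decide
  · rw [h.1]
    decide

theorem not3_minus (hF : Fintype.card F = 3) (hm : 4 ≤ m) {a b : F}
    (hab : ∀ z₁ z₂ : F, z₁ ^ 2 + a * z₁ * z₂ + b * z₂ ^ 2 = 0 → z₁ = 0 ∧ z₂ = 0) :
    ¬ 3 ∣ Nat.card (Out (POmega F (quadFormMinus (m - 1) F a b))) := by
  rcases od_minus le_rfl hF hm hab with h | h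
  · rw [h.1]
    decide
  · rw [h.1]
    decide

section L

open Cfsg.Agent.ClassicalGeometry.AutPSL.Auto Cfsg.Agent.ClassicalGeometry.AutPSL.Main Cfsg.Agent.H183.OutPSL

/-- `Out (PSL_n(3))` has exponent two -/
theorem sq_out_psl (hF : Fintype.card F = 3) (hn : 3 ≤ n) (x : Out (ProjectiveSpecialLinearGroup (Fin n) F)) :
    x ^ 2 = 1 := by
  have : Fact (Nat.Prime 3) := ⟨Nat.prime_three⟩
  have : CharP F 3 := charP_of_card_eq_prime hF
  have h1 : ∀ σ : F ≃+* F, σ = 1 := fun σ =>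
    (Nat.card_eq_one_iff_unique.1 (Lib.FieldAutCard.card_ringAut (p := 3) le_rfl hF)).1.elim _ _
  obtain ⟨α, rfl⟩ := QuotientGroup.mk'_surjective _ x
  rcases surj_three 3 hn α with ⟨A, σ, rfl⟩ | ⟨A, σ, rfl⟩
  · rw [h1 σ, map_one fld, mul_one]
    have h2 := toOut_of_det (A := A ^ 2) (by
      rw [map_pow]
      have h3 := pow_card_eq_one' (x := Matrix.GeneralLinearGroup.det A)
      rwa [Nat.card_units, Nat.card_eq_fintype_card, hF] at h3)
    rw [map_pow] at h2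
    exact h2
  · rw [h1 σ, map_one fld, mul_one, ← map_pow, ← map_pow, sq, mul_assoc, ← mul_assoc itr, itr_mul_cj, mul_assoc,
      itr_mul_itr, mul_one, ← map_mul]
    refine toOut_of_det (Units.ext ?_)
    show ((A : Matrix (Fin n) (Fin n) F) * ((A⁻¹ : GL (Fin n) F) : Matrix (Fin n) (Fin n) F)ᵀ).det = 1
    rw [det_mul, det_transpose, ← det_mul, ← Units.val_mul, mul_inv_cancel, Units.val_one, det_one]

/-- `Out (PSL₄(3))` is a four-group -/
theorem out_psl43 (hF : Fintype.card F = 3) : Nat.card (Out (ProjectiveSpecialLinearGroup (Fin 4) F)) = 4 ∧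
    ∀ x : Out (ProjectiveSpecialLinearGroup (Fin 4) F), x ^ 2 = 1 :=
  ⟨(od_psl le_rfl hF (by norm_num)).1, sq_out_psl hF (by norm_num)⟩

end L

section U

open Cfsg.Agent.H183.OutPSU Cfsg.Agent.ClassicalGeometry.PSUAutCount Cfsg.Agent.LieClassical.GUOrder

/-- `Out (PSU₄(3))` is dihedral of order eight -/
theorem out_psu43 (hF : Fintype.card F = 3 ^ 2) : Nonempty (Out (PSU 4 F 3) ≃* DihedralGroup 4) := by
  have : Fact (Nat.Prime 3) := ⟨Nat.prime_three⟩
  have hc : Nat.card (F ≃+* F) = 2 := Lib.FieldAutCard.card_ringAut (p := 3) (by norm_num) hF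
  let ρ : F ≃+* F := RingEquiv.ofBijective (frob hF) (Function.Involutive.bijective (frob_frob hF))
  have hρ : ∀ z, ρ z = z ^ 3 := fun _ => rfl
  have hρ1 : ρ ≠ 1 := by
    intro h
    obtain ⟨g, hg⟩ := IsCyclic.exists_ofOrder_eq_natCard (α := Fˣ)
    rw [Nat.card_units, Nat.card_eq_fintype_card, hF] at hg
    have h1 : g ^ 2 = 1 := by
      have h2 := hρ g
      rw [h] at h2
      have h3 : g ^ 2 * g = 1 * g := Units.ext (by rw [← pow_succ, one_mul]; exact h2.symm)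
      exact mul_right_cancel h3
    have h2 := orderOf_dvd_of_pow_eq_one h1
    rw [hg] at h2
    exact absurd h2 (by decide)
  let π := QuotientGroup.mk' (Inn (PSU 4 F 3))
  have h1 : ∀ σ : F ≃+* F, π (sG 4 3 F σ) * π (sG 4 3 F σ) = 1 := fun σ => by
    rw [← map_mul, ← map_mul, ← sq, ← hc, pow_card_eq_one', map_one, map_one]
  have h2 : ∀ A, π (cG 4 3 F (fG ρ A)) * π (cG 4 3 F A) = 1 := fun A => by
    obtain ⟨g, hg⟩ := exists_SU_of_det (fG ρ A * A) (by
      have h3 : ((gm A).map ρ).det = ρ (gm A).det := (RingHom.map_det ρ.toRingHom (gm A)).symm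
      rw [gm_mul, det_mul, gm_fG, h3, hρ, ← pow_succ]
      exact det_mul_frob_det hF _ (herm_gm A))
    rw [← map_mul, ← map_mul]
    exact (QuotientGroup.eq_one_iff _).2 ⟨_, (cG_of_SU g _ hg).symm⟩
  have h8 : Nat.card (Out (PSU 4 F 3)) = 8 := (od_psu le_rfl hF (by norm_num)).1
  obtain ⟨y, hy⟩ : ∃ y, π (sG 4 3 F ρ) * y ≠ y * π (sG 4 3 F ρ) := by
    by_contra hcon
    push Not at hcon
    have h3 : ∀ A, π (cG 4 3 F A) * π (cG 4 3 F A) = 1 := fun A => by
      have h4 := hcon (π (cG 4 3 F A))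
      rw [← map_mul, sG_mul_cG, map_mul] at h4
      have h5 := h2 A
      rwa [mul_right_cancel h4] at h5
    have h4 : ∀ x : Out (PSU 4 F 3), x ^ 2 = 1 := fun x => by
      obtain ⟨α, rfl⟩ := QuotientGroup.mk'_surjective _ x
      obtain ⟨A, σ, rfl⟩ := ClassicalGeometry.PSUAutMain.exists_toAut hF (by norm_num) (by norm_num) α
      show π _ ^ 2 = 1
      rw [toAut_eq, map_mul, sq]
      by_cases hσ : σ = 1
      · rw [hσ, map_one, map_one, mul_one, h3]
      · obtain ⟨τ, -, hτ⟩ := (Nat.card_eq_two_iff' (1 : F ≃+* F)).1 hc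
        rw [(hτ σ hσ).trans (hτ ρ hρ1).symm, mul_assoc, ← mul_assoc (π (sG 4 3 F ρ)), hcon, mul_assoc, h1, mul_one, h3]
    obtain ⟨φ, -, h5, h6⟩ := S2603.result (p := 3) (f := 1) le_rfl rfl hF (n := 4) (by norm_num) (by norm_num)
    obtain ⟨g, hg⟩ := IsCyclic.exists_ofOrder_eq_natCard (α := φ.ker)
    have h7 := orderOf_dvd_of_pow_eq_one (show g ^ 2 = 1 from Subtype.ext (h4 g))
    rw [hg, h6] at h7
    exact absurd h7 (by decide)
  exact H205.Abs.dihedral_of_card h8 (h1 ρ) hy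

end U

end Cfsg.Agent.KZ.Ch3
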