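import Cfsg.Agent.KZ.Ch3.FrmA
import Cfsg.Agent.KZ.Ch3.FrmB
import Cfsg.Agent.KZ.Ch3.Out
import Cfsg.Agent.KZ.Ch3L2.Main
import Cfsg.Agent.KZ.Ch3D4.Main
import Cfsg.Agent.KZ.Ch3X.G23
import Cfsg.Agent.SmallSimple.S1000.PSLFacts

/-!
# KZ, defining characteristic `3`: the row (helper38)

`row_three_of : Rest → Row fun S _ => IsLieTypeChar 3 S`; `Rest` : the invariant characters of the classical groups and
the lower bounds for `L₄(3)`, `U₄(3)`.
-/

set_option autoImplicit false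
set_option linter.unusedSectionVars false

namespace Cfsg.Agent.KZ.Ch3

open Cfsg Cfsg.Agent.KZ.Ch3X Cfsg.Agent.KZ.Tool Cfsg.Agent.KZ.Red Subgroup Matrix Cfsg.Agent.H845.OC
  Cfsg.Agent.SmallSimple.PSLFacts

/-- all rows from the frame, the outer automorphisms and `Tri` -/
theorem at_fam {M : Ideal AlgInt} {S : Type} [Group S] [Finite S] (hM : IsPModular 3 M) (hs : IsSimpleGroup S)
    (hab : ¬ IsMulCommutative S) (hL : IsLieTypeChar 3 S) {q l : ℕ} (hq : ∃ f, 1 ≤ f ∧ q = 3 ^ f) (hl : 2 ≤ l)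
    (hf : Fr3 (q ^ l) S) (ho : OC3 S) (h3 : q = 3 → ¬ 3 ∣ Nat.card (Out S)) (ht : Tri S)
    (h9 : q = 3 → l = 2 → ¬ 243 ∣ Nat.card S) (hlo : ¬ (q = 3 ∧ l = 2) → 9 * Nat.card (Out S) < q ^ l ∨ Lo3 M S) :
    At M S := by
  have hm := allM_of_lie hM hs hab hL
  by_cases h : q = 3 ∧ l = 2
  · obtain ⟨rfl, rfl⟩ := h
    exact at_nine hM hm (h3 rfl) hf.nab (hf.up rfl (h9 rfl rfl)) ht.duo
  obtain ⟨Y, hY⟩ := hf.ady
  refine at_of hM hm (upAt_of_big ho ?_) ((hlo h).elim (hY.lo3 hM (conj_inj hs hab) hm) id) ht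
  by_cases e : q = 3
  · subst e
    exact .inr ⟨hf.big.mono (Nat.pow_le_pow_right (n := 3) (by norm_num) (by omega : 3 ≤ l)), h3 rfl⟩
  · obtain ⟨f, h1, rfl⟩ := hq
    have h2 : 2 ≤ f := by
      by_contra h2
      exact e (by rw [show f = 1 by omega, pow_one])
    rw [← pow_mul] at hf
    exact .inl (hf.big.mono (Nat.pow_le_pow_right (n := 3) (by norm_num) (Nat.mul_le_mul h2 hl : 2 * 2 ≤ f * l)))

/-- what is left -/
structure Rest : Prop where
  psl : ∀ (F : Type) [Field F] [Fintype F] [CharP F 3] (n : ℕ), 3 ≤ n → Tri (ProjectiveSpecialLinearGroup (Fin n) F)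
  psu : ∀ (F : Type) [Field F] [Fintype F] [CharP F 3] (n q : ℕ), Fintype.card F = q ^ 2 → 3 ≤ n → Tri (PSU n F q)
  psp : ∀ (F : Type) [Field F] [Fintype F] [CharP F 3] (m : ℕ), 2 ≤ m → Tri (PSp m F)
  odd : ∀ (F : Type) [Field F] [Fintype F] [CharP F 3] (m : ℕ), 3 ≤ m → Tri (POmega F (quadFormOdd m F))
  plus : ∀ (F : Type) [Field F] [Fintype F] [CharP F 3] (m : ℕ), 5 ≤ m → Tri (POmega F (quadFormPlus m F))
  minus : ∀ (F : Type) [Field F] [Fintype F] [CharP F 3] (m : ℕ) (a b : F), 4 ≤ m →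
    (∀ z₁ z₂ : F, z₁ ^ 2 + a * z₁ * z₂ + b * z₂ ^ 2 = 0 → z₁ = 0 ∧ z₂ = 0) → Tri (POmega F (quadFormMinus (m - 1) F a b))
  l43 : ∀ M : Ideal AlgInt, IsPModular 3 M → ∀ (F : Type) [Field F] [Fintype F] [CharP F 3], Fintype.card F = 3 →
    ∀ Y : Subgroup (MulAut (ProjectiveSpecialLinearGroup (Fin 4) F)), AdY 27 Y → (Inn _).relIndex Y = 2 →
      Lo3 M (ProjectiveSpecialLinearGroup (Fin 4) F)
  u43 : ∀ M : Ideal AlgInt, IsPModular 3 M → ∀ (F : Type) [Field F] [Fintype F] [CharP F 3], Fintype.card F = 3 ^ 2 →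
    ∀ Y : Subgroup (MulAut (PSU 4 F 3)), AdY 27 Y → (Inn _).relIndex Y = 4 → (∃ y ∈ Y, Y = Inn _ ⊔ zpowers y) →
      Nat.card {χ : IrrCharacter ↥Y // ¬ 3 ∣ charDegree (χ : ↥Y → ℂ)} ≤ 27 → Lo3 M (PSU 4 F 3)

variable (h : Rest)
include h

theorem row_psl : Row fun S _ => IsPSLChar 3 S := row_of_at fun M hM S _ _ hs hab _ ⟨F, _, _, _, n, h1, h2, ⟨e⟩⟩ => by
  refine At.congr hM e ?_
  rcases h1.eq_or_lt with rfl | h3
  · exact Ch3L2.at_psl2 hM (h2 rfl)
  have := Finite.of_equiv _ e.toEquiv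
  have hs' := e.symm.isSimpleGroup
  have hab' := na_of_equiv e hab
  refine at_fam hM hs' hab' (.inl ⟨F, inferInstance, inferInstance, inferInstance, n, h1, h2, ⟨MulEquiv.refl _⟩⟩) (exists_exp F) (by omega)
    (fr_psl hs' hab' (by omega) (MulEquiv.refl _)) (oc_psl h1 h2) (fun e => not3_psl e h3) (h.psl F n h3)
    (fun e₀ e' => ?_) fun _ => ?_
  · obtain rfl : n = 3 := by omega
    rw [card_psl_three_three e₀]
    norm_num
  · by_cases h4 : Fintype.card F = 3 ∧ n ≤ 4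
    · obtain rfl : n = 4 := by omega
      obtain ⟨K, h5, h6⟩ := ex_l43 hs' hab' h4.1 (MulEquiv.refl _)
      exact .inr (h.l43 M hM F h4.1 K h5 h6)
    · exact .inl (nine_psl h3 h4)

theorem row_psu : Row fun S _ => IsPSUChar 3 S := row_of_at fun M hM S _ _ hs hab _ ⟨F, _, _, _, n, q, hF, h1, h2, ⟨e⟩⟩ => by
  refine At.congr hM e ?_
  have := Finite.of_equiv _ e.toEquiv
  have hs' := e.symm.isSimpleGroup
  have hab' := na_of_equiv e hab
  refine at_fam hM hs' hab' (.inr (.inr (.inl ⟨F, inferInstance, inferInstance, inferInstance, n, q, hF, h1, h2, ⟨MulEquiv.refl _⟩⟩)))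
    (exists_exp2 hF) (by omega) (fr_psu hs' hab' hF h1 (MulEquiv.refl _)) (oc_psu hF h1)
    (fun e => by subst e; exact not3_psu hF h1) (h.psu F n q hF h1) (fun e₀ e' => ?_) fun _ => ?_
  · obtain rfl : n = 3 := by omega
    subst e₀
    rw [card_psu_three_three hF]
    norm_num
  · by_cases h4 : q = 3 ∧ n ≤ 4
    · obtain rfl : n = 4 := by omega
      obtain ⟨rfl, -⟩ := h4
      obtain ⟨K, h5, h6, h7, h8⟩ := ex_u43 hs' hab' hF (MulEquiv.refl _)
      exact .inr (h.u43 M hM F hF K h5 h6 h7 h8)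
    · exact .inl (nine_psu hF h1 h4)

theorem row_psp : Row fun S _ => IsPSpChar 3 S := row_of_at fun M hM S _ _ hs hab _ ⟨F, _, _, _, m, h1, h2, ⟨e⟩⟩ => by
  refine At.congr hM e ?_
  have := Finite.of_equiv _ e.toEquiv
  have hs' := e.symm.isSimpleGroup
  have hab' := na_of_equiv e hab
  refine at_fam hM hs' hab' (.inr (.inl ⟨F, inferInstance, inferInstance, inferInstance, m, h1, h2, ⟨MulEquiv.refl _⟩⟩)) (exists_exp F) h1
    (fr_psp hs' hab' (by omega) (MulEquiv.refl _)) (oc_psp h1) (fun e => not3_psp e h1) (h.psp F m h1)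
    (fun e₀ e' => ?_) fun e => .inl (nine_psp h1 e)
  subst e'
  rw [card_psp_two_three e₀]
  norm_num

theorem row_odd : Row fun S _ => IsPOmegaOddChar 3 S :=
  row_of_at fun M hM S _ _ hs hab _ ⟨F, _, _, _, m, h1, h2, ⟨e⟩⟩ =>
  at_fam hM hs hab (.inr (.inr (.inr (.inl ⟨F, inferInstance, inferInstance, inferInstance, m, h1, h2, ⟨e⟩⟩)))) (exists_exp F) (by omega)
    (fr_odd hs hab (by omega) e) ((oc_odd h1).congr e) (fun e' => card_out_congr e ▸ not3_odd e' h1)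
    ((h.odd F m h1).congr e) (fun _ _ => by omega) fun _ => .inl (card_out_congr e ▸ nine_odd h1)

theorem row_plus : Row fun S _ => IsPOmegaPlusChar 3 S :=
  row_of_at fun M hM S _ _ hs hab _ ⟨F, _, _, _, m, h1, ⟨e⟩⟩ => by
  rcases h1.eq_or_lt with rfl | h2
  · exact Ch3D4.at_d4' hM e
  exact at_fam hM hs hab (.inr (.inr (.inr (.inr (.inl ⟨F, inferInstance, inferInstance, inferInstance, m, h1, ⟨e⟩⟩))))) (exists_exp F) (by omega)
    (fr_plus hs hab h1 e) ((oc_plus h2).congr e) (fun e' => card_out_congr e ▸ not3_plus e' h2)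
    ((h.plus F m h2).congr e) (fun _ _ => by omega) fun _ => .inl (card_out_congr e ▸ nine_plus h2)

theorem row_minus : Row fun S _ => IsPOmegaMinusChar 3 S :=
  row_of_at fun M hM S _ _ hs hab _ ⟨F, _, _, _, m, a, b, h1, h2, ⟨e⟩⟩ =>
  at_fam hM hs hab (.inr (.inr (.inr (.inr (.inr (.inl ⟨F, inferInstance, inferInstance, inferInstance, m, a, b, h1, h2, ⟨e⟩⟩)))))) (exists_exp F)
    (by omega) (fr_minus hs hab h1 h2 e) ((oc_minus h1 h2).congr e) (fun e' => card_out_congr e ▸ not3_minus e' h1 h2)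
    ((h.minus F m a b h1 h2).congr e) (fun _ _ => by omega) fun _ => .inl (card_out_congr e ▸ nine_minus h1 h2)

/-- **the row of the defining characteristic** -/
theorem row_three_of : Row fun S _ => IsLieTypeChar 3 S :=
  ((row_psl h).or ((row_psp h).or ((row_psu h).or ((row_odd h).or ((row_plus h).or ((row_minus h).or
    (row_exc.or (row_tw.or row_ree)))))))).mono fun _ _ hS => hS.imp id <| .imp id <| .imp id <| .imp id <| .imp id <|
      .imp id <| .imp id <| .imp id fun h => by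
        rcases h with h | h | h
        exacts [absurd h.1 (by norm_num), absurd h.1 (by norm_num), h.2]

end Cfsg.Agent.KZ.Ch3
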