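import Cfsg.Agent.KZ.Ch3.Defs
import Cfsg.Agent.KZ.Lie.LocA

/-!
# KZ, defining characteristic: true pairs and invariant characters of the simple group (helper38)

* `GP D w c`: the label `c` is in general position in a split Levi subgroup; `GP.tru`: `± RW w c` is a character;
* `Mov`, `Stb`, `Stb2`: the class of the pair is moved / fixed by the admissible matrices;
* `Dsc s f w c r`: `r` is the character of `S` given by `± RW w c`; `exists_dsc`, `Dsc.ch`, `Dsc.invAll`, `Dsc.invSq`,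
  `Dsc.orth`, `Dsc.orth_one`, `Dsc.ip`, `Dsc.irr`;
* `RO`, `CenT`: separation of labels by the orders of their values on the coroots;
* `zw_of_root`: labels from the root lattice are trivial on the centre;
* `tri_of`, `duo_of`: `Tri S`, `Duo S` from labels.
-/

set_option autoImplicit false
set_option linter.unusedSectionVars false

namespace Cfsg.Agent.KZ.Ch3

open Cfsg Cfsg.Agent.DL Cfsg.Agent.DL.PP Cfsg.Agent.DL.Uni Cfsg.Agent.DL.Asm Cfsg.Agent.DL.Mk Cfsg.Agent.Nodes.Reps Matrix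
  Cfsg.Agent.Characters.Core Cfsg.Agent.KZ.Lie Cfsg.Agent.ChevalleyStructure.CoxeterGeom Cfsg.Agent.Tits.Roots
  Cfsg.Agent.CharactersDeep.AbelianQuotient Cfsg.Agent.Nodes
open scoped ComplexConjugate

/-- a character which is constant on the cosets of a central kernel is an inflation -/
theorem exists_push {H S : Type} [Group H] [Finite H] [Group S] (π : H →* S) (hs : Function.Surjective π)
    (hz : ∀ z, π z = 1 → ∀ g, g * z = z * g) {χ : H → ℂ} (hχ : IsCharacter H χ) (h : ∀ z, π z = 1 → ∀ g, χ (z * g) = χ g) :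
    ∃ r : S → ℂ, IsCharacter S r ∧ ∀ g, r (π g) = χ g := by
  classical
  have := Fintype.ofFinite H
  have := @Fintype.ofFinite _ (finite_irr (G := H))
  obtain ⟨m, hm⟩ := exists_nat_comb hχ
  have h1 : ∀ θ : IrrCharacter H, ∃ r : S → ℂ, IsCharacter S r ∧ ∀ g, r (π g) = (m θ • (θ : H → ℂ)) g := fun θ => by
    by_cases h0 : m θ = 0
    · exact ⟨0, isCharacter_zero, fun g => by simp [h0]⟩
    have h2 : classInner (θ : H → ℂ) χ ≠ 0 := by
      rw [← classInner_conj_symm, hm, classInner_sum_nsmul_irr, map_natCast]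
      exact Nat.cast_ne_zero.2 h0
    obtain ⟨ψ, hψ⟩ := DGen.exists_push π hs (θ := θ) fun z h3 => by
      have h4 : classInner θ.1 χ = θ.1 z / θ.1 1 * classInner θ.1 χ := by
        rw [classInner_def, mul_left_comm, Finset.mul_sum _ _ (_ / _), ← Equiv.sum_comp (Equiv.mulLeft z)]
        refine congrArg _ (Finset.sum_congr rfl fun g _ => ?_)
        rw [Equiv.coe_mulLeft, h z h3, irr_cen θ (hz z h3), mul_assoc]
      exact (div_eq_one_iff_eq (isIrr_apply_one_ne_zero θ.2)).1 ((mul_eq_right₀ h2).1 h4.symm)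
    exact ⟨m θ • (ψ : S → ℂ), isCharacter_nsmul _ (isIrr_isCharacter ψ.2), fun g => by
      rw [Pi.smul_apply, Pi.smul_apply, hψ, Res.pull_apply, ← hψ]⟩
  choose r h2 h3 using h1
  exact ⟨∑ θ, r θ, isCharacter_sum _ fun θ _ => h2 θ, fun g => by
    rw [hm, Finset.sum_apply, Finset.sum_apply]
    exact Finset.sum_congr rfl fun θ _ => h3 θ g⟩

/-- inner products along a surjection -/
theorem ip_surj {H S : Type} [Group H] [Fintype H] [Group S] [Fintype S] (π : H →* S) (hs : Function.Surjective π)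
    (a b : S → ℂ) : classInner (fun x => a (π x)) (fun x => b (π x)) = classInner a b := by
  classical
  have h1 : ∀ s : S, ((Finset.univ.filter fun x => π x = s).card : ℂ) = Nat.card π.ker := fun s => by
    obtain ⟨x, rfl⟩ := hs s
    rw [← Nat.card_eq_finsetCard]
    exact congrArg _ (Nat.card_congr ((Equiv.mulRight x⁻¹).subtypeEquiv fun y => by simp [mul_inv_eq_one]))
  have h2 : (Nat.card H : ℂ) = Nat.card π.ker * Nat.card S := by
    rw [← π.ker.card_mul_index, Subgroup.index_ker, MonoidHom.range_eq_top.2 hs, Subgroup.card_top, Nat.cast_mul]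
  have h3 : (Nat.card π.ker : ℂ) ≠ 0 := card_ne_zero_complex
  rw [classInner_def, classInner_def, ← Finset.sum_fiberwise' Finset.univ π fun s => a s * conj (b s)]
  simp only [Finset.sum_const, nsmul_eq_mul, h1, ← Finset.mul_sum]
  rw [h2, mul_inv, mul_assoc, mul_left_comm (Nat.card S : ℂ)⁻¹, inv_mul_cancel_left₀ h3]

variable {p : ℕ} [Fact p.Prime] {k : Type} [Field k] [CharP k p] {Y : Type} [Group Y] {N : Type} [Fintype N]
  [DecidableEq N] {ρ : Y →* GL N k} {F : MulAut Y} {G : Subgroup Y} [IsAlgClosed k] {D : Datum p ρ F G}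
  {w w' v : D.W} {c c' : Lbl D}

/-! ### true pairs -/

theorem fix_of_wt {δ : D.R → ℤ} (h : ∀ a, D.wt a ⬝ᵥ δ = 0) (u : D.W) : D.Wm u *ᵥ δ = δ := by
  induction u using D.cs.simple_induction with
  | one => rw [D.Wm_one, one_mulVec]
  | simple i => rw [D.Wm_simple, sub_mulVec, one_mulVec, vecMulVec_mulVec, h]; simp
  | mul a b ha hb => rw [D.Wm_mul, ← mulVec_mulVec, hb, ha]

theorem fix_of_act {lam : D.R → ℤ} {u : D.W} (h : ∀ a, D.wt (D.act u a) ⬝ᵥ lam = D.wt a ⬝ᵥ lam) : D.Wm u *ᵥ lam = lam := by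
  have h1 : ∀ a, D.wt a ⬝ᵥ (D.Wm u *ᵥ lam - lam) = 0 := fun a => by
    rw [dotProduct_sub, dotProduct_mulVec, ← D.wt_act', ← h (D.act u⁻¹ a), act_act_inv, sub_self]
  have h2 : ∀ n : ℕ, D.Wm (u ^ n) *ᵥ lam = lam + n • (D.Wm u *ᵥ lam - lam) := fun n => by
    induction n with
    | zero => rw [pow_zero, D.Wm_one, one_mulVec, zero_smul, add_zero]
    | succ n ih =>
      rw [pow_succ', D.Wm_mul, ← mulVec_mulVec, ih, mulVec_add, mulVec_smul, fix_of_wt h1, succ_nsmul]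
      abel
  have h3 := h2 (orderOf u)
  rw [pow_orderOf_eq_one, D.Wm_one, one_mulVec, left_eq_add, smul_eq_zero] at h3
  exact sub_eq_zero.1 (h3.resolve_left (orderOf_pos u).ne')

variable (D) in
/-- the label is in general position in a split Levi subgroup -/
structure GP (w : D.W) (c : Lbl D) : Prop where
  fx : Fx D w c
  lev : ∃ (lam : D.R → ℤ) (n : ℤ), 0 < n ∧ (D.Wm w * D.Mx) *ᵥ lam = n • lam ∧
    ∀ u, D.Wm u *ᵥ lam = lam → Rel D u c c → u = 1

/-- a label in general position -/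
theorem gp_of_reg (h : Fx D w c) (h1 : ∀ u, Rel D u c c → u = 1) : GP D w c :=
  ⟨h, 0, 1, one_pos, by simp, fun u _ => h1 u⟩

theorem tru_of_dom (f : Fr D) (h : Fx D w c) {lam : D.R → ℤ} {n : ℤ} (hn : 0 < n)
    (h1 : (D.Wm w * D.Mx) *ᵥ lam = n • lam) (h2 : ∀ u, D.Wm u *ᵥ lam = lam → Rel D u c c → u = 1)
    (h3 : ∀ i, 0 ≤ D.wt (sr i) ⬝ᵥ lam) : ∃ ε : ℂ, (ε = 1 ∨ ε = -1) ∧ IsCharacter ↥(GF F G) (ε • RW f w c) := by
  let l : (D.I → ℤ) →+ ℤ := AddMonoidHom.mk' (fun b => D.wt b ⬝ᵥ lam) fun a b => by rw [map_add, add_dotProduct]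
  have hy := yw_mem D w
  have hw := yw_rp D w
  obtain ⟨hθ, h7⟩ := th_spec f h
  have h5 : ∀ a, D.Rt a → (0 < l (D.act w (D.g a)) ↔ 0 < l a) := fun a ha => by
    have h6 : n * l (D.act w (D.g a)) = (p : ℤ) ^ D.ex a * l a := by
      have h8 := congrArg (· ⬝ᵥ lam) (wt_gw w ha)
      simp only [← dotProduct_mulVec, h1, dotProduct_smul, smul_dotProduct, smul_eq_mul] at h8
      exact h8
    rw [← mul_pos_iff_of_pos_left hn, h6, mul_pos_iff_of_pos_left (pow_pos (Nat.cast_pos.2 (Fact.out : p.Prime).pos) _)]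
  obtain ⟨ε, h8, h9⟩ := PP.exists_char (D := D.conj hy ⟨w, hw⟩) (l := l) (lam := lam) (fun _ => rfl) h3
    (fun a ha => by rw [D.conj_g, hw.pr_eq]; exact h5 a ha) hθ fun u m hm hF hu hc =>
      h2 u (fix_of_act hu) fun x => Units.ext (by
      have hm' : D.Rp u ((yw D w)⁻¹ * m * yw D w) := (D.conj_rp_iff hy ⟨w, hw⟩).1 (by simpa [mul_assoc] using hm)
      rw [← h7, ← h7, ← mon_coch, ← D.conj_τ hm', ← hc _ (PP.nrm_mem f.L f.hζ hy hw x)]
      refine congrArg (th f w c) (Eq.trans ?_ (nrm_map (α := MulAut.conj m) (fun z => by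
        simp only [MulAut.conj_apply, map_mul, map_inv, hF]) f.d _))
      congr 1
      rw [MulAut.conj_apply]
      group)
  refine ⟨ε, h8, ?_⟩
  convert h9 using 1
  funext g
  exact congrArg (ε • ·) (R_eq' ((D.pair_conj hy ⟨w, hw⟩).1 (D.conj hy ⟨w, hw⟩).pair_self) _ g g.2)

/-- **a pair in general position in a split Levi subgroup is true** -/
theorem GP.tru (f : Fr D) [Fintype ↥(GF F G)] (h : GP D w c) : ∃ ε : ℂ, (ε = 1 ∨ ε = -1) ∧ IsCharacter ↥(GF F G) (ε • RW f w c) := by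
  obtain ⟨h0, lam, n, hn, h1, h2⟩ := h
  obtain ⟨v, -, hv⟩ := exists_align D ⊤ (frm (D := D) 1 lam) ((Int.castAddHom ℝ).comp Slope.htHom)
  have h8 : Rel D v (mon (D.Wm v)ᵀ c) c := fun x => (chr_tr D _ x c).symm
  have h9 : Tc D v (v⁻¹ * w * (D.Fw v⁻¹)⁻¹) w := by
    show w * D.Fw v = _
    rw [map_inv, inv_inv, mul_assoc, mul_inv_cancel_left]
  have h10 : ∀ x, D.Wm v *ᵥ (D.Wm v⁻¹ *ᵥ x) = x := fun x => by
    rw [mulVec_mulVec, ← D.Wm_mul, mul_inv_cancel, D.Wm_one, one_mulVec]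
  have h11 : ∀ x, D.Wm v⁻¹ *ᵥ (D.Wm v *ᵥ x) = x := fun x => by
    rw [mulVec_mulVec, ← D.Wm_mul, inv_mul_cancel, D.Wm_one, one_mulVec]
  rw [← RW_conj f h9 h8]
  refine tru_of_dom f (h0.rel h8.symm) (lam := D.Wm v⁻¹ *ᵥ lam) hn ?_ (fun u h3 h4 => ?_) fun i => ?_
  · rw [← h11 (_ *ᵥ (D.Wm v⁻¹ *ᵥ lam)), mulVec_mulVec _ (D.Wm v), tc_iff.1 h9, ← mulVec_mulVec, h10, h1, mulVec_smul]
  · have h5 := h2 (v * u * v⁻¹) (by rw [D.Wm_mul, D.Wm_mul, ← mulVec_mulVec, ← mulVec_mulVec, h3, h10])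
      (by simpa only [mul_assoc] using (h8.symm.trans h4).trans h8)
    simpa using h5
  · have h3 := nonneg_of_mul_nonneg_left (hv _ (isRoot_sr _ _ i) trivial)
      (by exact_mod_cast Int.cast_pos.2 (D.ht_pos_of_pos _ ⟨isRoot_sr _ _ i, sr_nonneg i⟩))
    rw [frm_apply, vecMul_one, Int.cast_nonneg_iff] at h3
    rwa [dotProduct_mulVec, ← D.wt_act', inv_inv]

/-! ### the action of the admissible matrices on pairs -/

variable (D) in
/-- the matrix `A` moves the class of `(w', c')` to the class of `(w, c)` -/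
def Mov (A : Matrix D.R D.R ℤ) (w : D.W) (c : Lbl D) (w' : D.W) (c' : Lbl D) : Prop :=
  ∃ v, A * D.Wm v * (D.Wm w * D.Mx) = D.Wm w' * D.Mx * (A * D.Wm v) ∧ ∀ x, chr ((A * D.Wm v) *ᵥ x) c' = chr x c

variable (D) in
/-- the class of the pair is fixed by all admissible matrices -/
def Stb (Adm : Matrix D.R D.R ℤ → Prop) (w : D.W) (c : Lbl D) : Prop := ∀ A, Adm A → Mov D A w c w c

variable (D) in
/-- the class of the pair is fixed by the squares of all admissible matrices -/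
def Stb2 (Adm : Matrix D.R D.R ℤ → Prop) (w : D.W) (c : Lbl D) : Prop :=
  ∀ A, Adm A → ∃ w' c', Fx D w' c' ∧ Mov D A w' c' w c ∧ Mov D A w c w' c'

theorem Stb.two {Adm : Matrix D.R D.R ℤ → Prop} (h : Stb D Adm w c) (hc : Fx D w c) : Stb2 D Adm w c :=
  fun A hA => ⟨w, c, hc, h A hA, h A hA⟩

variable {f : Fr D} [Fintype ↥(GF F G)]

theorem RW_mov (hA : Api f) {α : MulAut Y} {A : Matrix D.R D.R ℤ} (h : Au D α A) (hm : Mov D A w c w' c')
    (hc : Fx D w' c') (g : ↥(GF F G)) : RW f w' c' (h.aut g) = RW f w c g := by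
  obtain ⟨v, h1, h2⟩ := hm
  obtain ⟨⟨a, ha⟩, h3⟩ := hA.aut α A h
  have h4 := ha (a.symm w')
  rw [MulEquiv.apply_symm_apply] at h4
  rw [(h3 (a.symm w') w' (mon Aᵀ c') c' h4 (fun x => (chr_tr D _ x c').symm) hc).2 g _ rfl]
  refine congrFun (hA.conj v w _ c _ (tc_iff.2 ?_) fun x => ?_).symm g
  · refine (reg_of_det h.det_ne).left ?_
    show A * _ = A * _
    rw [← mul_assoc, h1, ← mul_assoc A, ← mul_assoc A, ← h4, mul_assoc (D.Wm w') A, h.comm_Mx]
    simp only [mul_assoc]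
  · rw [chr_tr, mulVec_mulVec, h2]

/-! ### descent -/

variable {Adm : Matrix D.R D.R ℤ → Prop} {S : Type} [Group S] {s : Sit D Adm S} {r r' : S → ℂ}

variable (s f) in
/-- `r` is the character of `S` given by `± RW w c` -/
structure Dsc (w : D.W) (c : Lbl D) (r : S → ℂ) : Prop where
  fx : Fx D w c
  char : IsCharacter S r
  dn : ∃ ε : ℂ, (ε = 1 ∨ ε = -1) ∧ IsCharacter ↥(GF F G) (ε • RW f w c) ∧ s.Dn (ε • RW f w c) r

variable (s) in
/-- descent of a character of `G ^ F` -/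
theorem exists_dn {χ : ↥(GF F G) → ℂ} (hχ : IsCharacter ↥(GF F G) χ)
    (hz : ∀ z : ↥s.H0, s.π z = 1 → ∀ g, χ (⟨z, s.le z.2⟩ * g) = χ g) : ∃ r, IsCharacter S r ∧ s.Dn χ r :=
  have := s.finiteH
  exists_push s.π s.surj (fun z h g => Subtype.ext ((s.ker z).1 h g (s.le g.2).1))
    (isCharacter_comp (Subgroup.inclusion s.le) hχ) fun z h g => hz z h ⟨g, s.le g.2⟩

theorem exists_dsc (h : GP D w c) (hz : s.Zw f w c) : ∃ r, Dsc f s w c r := by
  obtain ⟨ε, h1, h2⟩ := h.tru f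
  obtain ⟨r, h3, h4⟩ := exists_dn s h2 fun z h5 g => by rw [Pi.smul_apply, Pi.smul_apply, hz z h5]
  exact ⟨r, h.fx, h3, ε, h1, h2, h4⟩

/-- the degree -/
theorem Dsc.deg (hA : Api f) (h : Dsc f s w c r) : charDegree r * ordT D w = pc' p (GF F G) := by
  obtain ⟨ε, h1, -, h2⟩ := h.dn
  have h3 : r 1 = ε * RW f w c 1 := (congrArg r (map_one s.π).symm).trans (h2 1)
  have h4 : ((charDegree r * ordT D w : ℕ) : ℂ) = ε * sg D w * pc' p (GF F G) := by
    rw [Nat.cast_mul, cast_deg h.char, h3, mul_assoc, hA.deg w c h.fx, mul_assoc]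
  have h5 : pc' p (GF F G) ≠ 0 := fun e => not_dvd_pc' (p := p) (GF F G) (e ▸ dvd_zero p)
  have h6 : ε * sg D w = 1 ∨ ε * sg D w = -1 := by
    rcases h1 with rfl | rfl <;> rcases sg_sign D w with e | e <;> simp [e]
  rcases h6 with e | e <;> rw [e] at h4
  · exact_mod_cast h4.trans (one_mul _)
  · have h7 : ((charDegree r * ordT D w : ℕ) : ℤ) = -1 * pc' p (GF F G) := by exact_mod_cast h4
    omega

theorem Dsc.ch (hA : Api f) (hp : p = 3) (h : Dsc f s w c r) : Ch r :=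
  ⟨h.char, fun h1 => not_dvd_pc' (p := p) (GF F G) (h.deg hA ▸ Dvd.dvd.mul_right (hp ▸ h1 : p ∣ charDegree r) _)⟩

variable (s) in
/-- the action of an automorphism of `S` on class functions -/
theorem exists_aut' (σ : MulAut S) : ∃ α A, ∃ h : Au D α A, Adm A ∧ ∀ (χ : ↥(GF F G) → ℂ) (ψ : S → ℂ),
    IsClassFunction ↥(GF F G) χ → s.Dn χ ψ → s.Dn (fun g => χ (h.aut g)) fun x => ψ (σ x) := by
  obtain ⟨g, hg, α, A, h, hA, h1⟩ := s.aut σ
  refine ⟨α, A, h, hA, fun χ ψ hχ hd x => ?_⟩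
  obtain ⟨b, h2, h3⟩ := h1 x
  show ψ (σ (s.π x)) = χ _
  rw [← h3, hd, ← hχ (h.aut ⟨x, s.le x.2⟩) ⟨g, hg⟩]
  exact congrArg _ (Subtype.ext h2)

theorem Dsc.invAll (hA : Api f) (h : Dsc f s w c r) (hs : Stb D Adm w c) : InvAll r := fun σ => by
  obtain ⟨ε, -, h1, h2⟩ := h.dn
  obtain ⟨α, A, h3, h4, h5⟩ := exists_aut' s σ
  have h6 := h5 _ _ (isCharacter_isClassFunction h1) h2
  simp only [Pi.smul_apply, RW_mov hA h3 (hs A h4) h.fx] at h6
  exact congrFun (h6.unique h2)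

theorem Dsc.invSq (hA : Api f) (h : Dsc f s w c r) (hs : Stb2 D Adm w c) : InvSq r := fun σ => by
  obtain ⟨ε, -, h1, h2⟩ := h.dn
  obtain ⟨α, A, h3, h4, h5⟩ := exists_aut' s σ
  obtain ⟨w', c', h6, h7, h8⟩ := hs A h4
  have h9 := h5 _ _ (isCharacter_isClassFunction (isCharacter_comp h3.aut.toMonoidHom h1))
    (h5 _ _ (isCharacter_isClassFunction h1) h2)
  have h10 : ∀ g, RW f w c (h3.aut (h3.aut g)) = RW f w c g := fun g => by
    rw [RW_mov hA h3 h7 h.fx, RW_mov hA h3 h8 h6]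
  simp only [Function.comp_apply, MulEquiv.coe_toMonoidHom, Pi.smul_apply, h10] at h9
  exact congrFun (h9.unique h2)

/-- inner products on `S` -/
theorem ip_dn [Fintype S] {χ χ' : ↥(GF F G) → ℂ} (h : s.Dn χ r) (h' : s.Dn χ' r') :
    ∃ Λ : Finset (↥(GF F G) →* ℂˣ), (∀ l, l ∈ Λ ↔ ∀ x : ↥s.H0, l ⟨x, s.le x.2⟩ = 1) ∧ Λ.card = s.H1.index ∧
      classInner r r' = ∑ l ∈ Λ, classInner ((fun g => (l g : ℂ)) * χ) χ' := by
  have := s.normal
  have := Fintype.ofFinite ↥s.H1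
  obtain ⟨Λ, h1, h2, h3, h4⟩ := exists_linear_dual s.H1 s.comm1
  refine ⟨Λ, fun l => (h1 l).trans s.lin_iff.symm, h2, ?_⟩
  rw [← DGen.inner_res χ χ' Λ h3 h4, ← ip_surj s.π1 s.π1_surj, funext (s.dn_iff.1 h), funext (s.dn_iff.1 h')]

theorem Dsc.orth (hA : Api f) (h : Dsc f s w c r) (h' : Dsc f s w' c' r')
    (hn : ∀ cl, s.Tw f cl → ∀ v, Tc D v w w' → ¬ Rel D v (c * cl) c') : Orth r r' := by
  have := s.finite
  have := Fintype.ofFinite S
  obtain ⟨ε, -, -, h1⟩ := h.dn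
  obtain ⟨ε', -, -, h2⟩ := h'.dn
  obtain ⟨Λ, h3, -, h4⟩ := ip_dn h1 h2
  rw [orth_iff, h4]
  refine Finset.sum_eq_zero fun l hl => ?_
  obtain ⟨cl, h5, -, -, -, h6⟩ := s.exists_lbl hA ((h3 l).1 hl)
  rw [mul_smul_comm, classInner_smul_left, classInner_smul_right,
    show (fun g => (l g : ℂ)) * RW f w c = RW f w (c * cl) from funext fun g => (h6 w c g).symm]
  by_contra h7
  obtain ⟨-, -, v, h8, h9⟩ := rel_of_ne (right_ne_zero_of_mul (right_ne_zero_of_mul h7))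
  exact hn cl h5 v h8 h9

theorem Dsc.orth_one (hA : Api f) (h : Dsc f s w c r) (hn : ∀ cl, s.Tw f cl → c * cl ≠ 1) : Orth r fun _ => 1 := by
  have := s.finite
  have := Fintype.ofFinite S
  obtain ⟨ε, -, -, h1⟩ := h.dn
  obtain ⟨Λ, h3, -, h4⟩ := ip_dn h1 (χ' := fun _ => 1) (r' := fun _ => 1) fun _ => rfl
  rw [orth_iff, h4]
  refine Finset.sum_eq_zero fun l hl => ?_
  obtain ⟨cl, h5, -, -, -, h6⟩ := s.exists_lbl hA ((h3 l).1 hl)
  rw [mul_smul_comm, classInner_smul_left,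
    show (fun g => (l g : ℂ)) * RW f w c = RW f w (c * cl) from funext fun g => (h6 w c g).symm, ← classInner_conj_symm,
    ip_one, if_neg (hn cl h5), map_zero, mul_zero]

/-- the norm is a sum over the twists -/
theorem Dsc.ip [Fintype S] (hA : Api f) (h : Dsc f s w c r) :
    ∃ (Λ : Finset (↥(GF F G) →* ℂˣ)) (t : (↥(GF F G) →* ℂˣ) → Lbl D), 1 ∈ Λ ∧ Λ.card = s.H1.index ∧
      (∀ l ∈ Λ, s.Tw f (t l) ∧ (t l = 1 ↔ l = 1)) ∧
      classInner r r = ∑ l ∈ Λ, (Nat.card {v : D.W // Tc D v w w ∧ Rel D v (c * t l) c} : ℂ) := by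
  classical
  obtain ⟨ε, h0, -, h1⟩ := h.dn
  obtain ⟨Λ, h3, h2, h4⟩ := ip_dn h1 h1
  choose t h5 h6 h7 h8 h9 using fun l : Λ => s.exists_lbl hA ((h3 l).1 l.2)
  refine ⟨Λ, fun l => if hl : l ∈ Λ then t ⟨l, hl⟩ else 1, (h3 1).2 fun _ => rfl, h2, fun l hl => ?_, ?_⟩
  · beta_reduce
    rw [dif_pos hl]
    have h10 := (h8 ⟨l, hl⟩ 1).symm
    rw [pow_one] at h10
    exact ⟨h5 _, h10.trans (iff_of_eq (congrArg (· = 1) (pow_one l)))⟩
  · rw [h4]
    refine Finset.sum_congr rfl fun l hl => ?_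
    beta_reduce
    rw [dif_pos hl, mul_smul_comm, classInner_smul_left, classInner_smul_right,
      show (fun g => (l g : ℂ)) * RW f w c = RW f w (c * t ⟨l, hl⟩) from funext fun g => (h9 ⟨l, hl⟩ w c g).symm,
      hA.ip _ _ _ _ (fx_mul h.fx (h7 _ w)) h.fx]
    rcases h0 with rfl | rfl <;> simp

/-- general position, and no twist fixes the class -/
theorem Dsc.irr (hA : Api f) (h : Dsc f s w c r) (h1 : ∀ v, Tc D v w w → Rel D v c c → v = 1)
    (h2 : ∀ cl, s.Tw f cl → ∀ v, Tc D v w w → Rel D v (c * cl) c → cl = 1) : IsIrrCharacter S r := by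
  have := s.finite
  have := Fintype.ofFinite S
  obtain ⟨Λ, t, h3, -, h4, h5⟩ := h.ip hA
  refine isIrr_of_classInner_self h.char ?_
  rw [h5, Finset.sum_eq_single_of_mem 1 h3 fun l hl h6 => ?_, (h4 1 h3).2.2 rfl, mul_one, Nat.cast_eq_one,
    Nat.card_eq_one_iff_exists]
  · exact ⟨⟨1, tc_one w, rel_one D c⟩, fun v => Subtype.ext (h1 v v.2.1 v.2.2)⟩
  · rw [Nat.cast_eq_zero, Nat.card_eq_zero]
    exact .inl ⟨fun v => h6 ((h4 l hl).2.1 (h2 _ (h4 l hl).1 v v.2.1 v.2.2))⟩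

/-! ### separation -/

variable (D) in
/-- the values on the coroots are `n`-th roots of unity -/
def RO (c : Lbl D) (n : ℕ) : Prop := ∀ a, D.Rt a → chr (D.cor a) c ^ n = 1

variable (s f) in
/-- the twists are trivial on the coroots -/
def CenT : Prop := ∀ cl, s.Tw f cl → ∀ a, D.Rt a → chr (D.cor a) cl = 1

theorem cenT_of_prim (hA : Api f) (h : ∀ a, D.Rt a → ∃ x, D.wt a ⬝ᵥ x = 1) : CenT f s := fun cl hc a ha => by
  obtain ⟨x, hx⟩ := h a ha
  have h1 := (hc.props hA).1 (D.rf a) x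
  rw [D.Wm_rf ha, sub_mulVec, one_mulVec, vecMulVec_mulVec, hx, chr_sub] at h1
  simpa using h1

theorem cenT_of_top (hA : Api f) (h : s.H0 = GF F G) : CenT f s := fun cl hc a _ => by
  have h1 := (hc.props hA).2.2.1
  rw [Sit.H1, Subgroup.index_eq_one.2 (Subgroup.subgroupOf_eq_top.2 h.ge), pow_one] at h1
  rw [h1, map_one]

theorem RO.dvd {m n : ℕ} (h : RO D c m) (hmn : m ∣ n) : RO D c n := fun a ha => by
  obtain ⟨j, rfl⟩ := hmn
  rw [pow_mul, h a ha, one_pow]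

theorem ro_of_rel (hT : CenT f s) {cl : Lbl D} (hc : s.Tw f cl) (h : Rel D v (c * cl) c') {n : ℕ} (h1 : RO D c' n) :
    RO D c n := fun a ha => by
  have h2 := h (D.cor a)
  rw [map_mul, hT cl hc a ha, mul_one, ← D.cor_act v ha] at h2
  rw [← h2, h1 _ (ha.act v)]

theorem Dsc.orth_ro (hA : Api f) (hT : CenT f s) (h : Dsc f s w c r) (h' : Dsc f s w' c' r') {n : ℕ} (h1 : ¬ RO D c n)
    (h2 : RO D c' n) : Orth r r' := h.orth hA h' fun _ hc _ _ e => h1 (ro_of_rel hT hc e h2)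

theorem Dsc.orth_one_ro (hA : Api f) (hT : CenT f s) (h : Dsc f s w c r) {n : ℕ} (h1 : ¬ RO D c n) :
    Orth r fun _ => 1 := h.orth_one hA fun cl hc e =>
  h1 (ro_of_rel (c' := 1) (v := 1) hT hc (by rw [e]; exact rel_one D _) fun a _ => by rw [map_one, one_pow])

theorem Orth.symm {S : Type} {a b : S → ℂ} [Group S] [Finite S] (h : Orth a b) : Orth b a := by
  have := Fintype.ofFinite S
  rw [orth_iff] at h ⊢
  rw [← classInner_conj_symm, h, map_zero]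

/-! ### the centre -/

theorem nrm_τ {y : Y} (hw : D.Rp w (y⁻¹ * F y)) (ζ : kˣ) (x : D.R → ℤ) (d : ℕ) :
    nrm F d (y * D.τ (coch x ζ) * y⁻¹) =
      y * D.τ (coch ((∑ i ∈ Finset.range d, (D.Wm w * D.Mx) ^ i) *ᵥ x) ζ) * y⁻¹ := by
  have h1 : ∀ i : ℕ, (F ^ i) (y * D.τ (coch x ζ) * y⁻¹) = y * D.τ (coch ((D.Wm w * D.Mx) ^ i *ᵥ x) ζ) * y⁻¹ := fun i => by
    induction i with
    | zero => rw [pow_zero, pow_zero, one_mulVec, MulAut.one_apply]
    | succ i ih => rw [pow_succ', MulAut.mul_apply, ih, F_cj_τ hw, mon_coch, mulVec_mulVec, ← pow_succ']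
  induction d with
  | zero =>
    rw [nrm_zero, Finset.sum_range_zero, zero_mulVec, show coch (0 : D.R → ℤ) ζ = 1 from funext fun _ => zpow_zero _,
      map_one, mul_one, mul_inv_cancel]
  | succ d ih => rw [nrm_succ, ih, h1, Finset.sum_range_succ, add_mulVec, coch_add, map_mul, conj_mul]

/-- a label `ξ ^ x` with `x (w F - 1) = n y`, `y` in the root lattice, is trivial on the kernel -/
theorem zw_of_root {ξ : ℂˣ} {n : ℕ} (hξ : ξ ^ n = 1) {x : D.R → ℤ} {γ : D.I → ℤ}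
    (h : x ᵥ* (D.Wm w * D.Mx) = x + (n : ℤ) • D.wt γ) : Fx D w (coch x ξ) ∧ s.Zw f w (coch x ξ) := by
  have h0 : ∀ y, chr y (coch x ξ) = ξ ^ (x ⬝ᵥ y) := fun y => by rw [chr_coch, dotProduct_comm]; rfl
  have hc : Fx D w (coch x ξ) := fun y => by
    rw [h0, h0, dotProduct_mulVec, h, add_dotProduct, smul_dotProduct, smul_eq_mul, _root_.zpow_add, _root_.zpow_mul,
      zpow_natCast, hξ, _root_.one_zpow, mul_one]
  refine ⟨hc, (s.zw_iff hc).2 fun z hz => ?_⟩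
  obtain ⟨y, hy⟩ := PP.exists_nrm f.L f.hζ (yw_mem D w) (yw_rp D w) (s.ker_mem hz w)
  have h1 : ∀ a, D.Rt a → ((p ^ f.e - 1 : ℕ) : ℤ) ∣ D.wt a ⬝ᵥ (∑ i ∈ Finset.range f.d, (D.Wm w * D.Mx) ^ i) *ᵥ y :=
    fun a ha => by
    have h2 := hy
    rw [nrm_τ (yw_rp D w), eq_mul_inv_iff_mul_eq, ← (s.ker z).1 hz _ (yw_mem D w), mul_right_inj] at h2
    have h3 := D.tor a ha (coch ((∑ i ∈ Finset.range f.d, (D.Wm w * D.Mx) ^ i) *ᵥ y) f.ζ) 1
    rw [← h2, ← (s.ker z).1 hz _ (D.X_le_G ha (D.x_mem ha 1)), mul_inv_cancel_right] at h3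
    have h4 := D.x_inj a ha h3
    rw [mul_one, eq_comm, Units.val_eq_one, chr_coch] at h4
    exact (f.hζ.zpow_eq_one_iff_dvd _).1 h4
  have h2 : ((p ^ f.e - 1 : ℕ) : ℤ) ∣ D.wt γ ⬝ᵥ (∑ i ∈ Finset.range f.d, (D.Wm w * D.Mx) ^ i) *ᵥ y := by
    rw [D.eq_sum_sr γ, map_sum, sum_dotProduct]
    exact Finset.dvd_sum fun i _ => by
      rw [map_zsmul, smul_dotProduct]
      exact (h1 _ (isRoot_sr _ _ i)).mul_left _
  obtain ⟨t, ht⟩ := h2
  have h3 : 1 < p ^ f.e := Nat.one_lt_pow f.L.e_pos.ne' (Fact.out : p.Prime).one_lt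
  have h4 : ((p ^ f.e - 1 : ℕ) : ℤ) * (x ⬝ᵥ y) = ((p ^ f.e - 1 : ℕ) : ℤ) * (n * t) := by
    have h5 := congrArg (fun B => x ⬝ᵥ B *ᵥ y) (mul_geom_sum (D.Wm w * D.Mx) f.d)
    simp only [f.L.pow, ← mulVec_mulVec, sub_mulVec, smul_mulVec, one_mulVec, dotProduct_sub, dotProduct_smul] at h5
    rw [mulVec_mulVec, dotProduct_mulVec x (D.Wm w * D.Mx), h, add_dotProduct, smul_dotProduct, ht] at h5
    rw [Nat.cast_sub h3.le] at h5 ⊢
    simp only [smul_eq_mul] at h5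
    push_cast at h5 ⊢
    linear_combination -h5
  have h5 := mul_left_cancel₀ (Nat.cast_ne_zero.2 (by omega)) h4
  rw [hy, (th_spec f hc).2 y, h0, h5, _root_.zpow_mul, zpow_natCast, hξ, _root_.one_zpow, Units.val_one]

/-! ### the criteria -/

/-- `Duo S` from two labels -/
theorem duo_of (hA : Api f) (hp : p = 3) (hT : CenT f s) {wb wc : D.W} {b c : Lbl D} {m n : ℕ}
    (b1 : GP D wb b) (b2 : s.Zw f wb b) (b3 : Stb D Adm wb b) (b4 : ¬ RO D b n)
    (c1 : GP D wc c) (c2 : s.Zw f wc c) (c3 : Stb D Adm wc c) (c4 : RO D c n) (c5 : ¬ RO D c m) : Duo S := by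
  obtain ⟨rb, hb⟩ := exists_dsc b1 b2
  obtain ⟨rc, hc⟩ := exists_dsc c1 c2
  exact ⟨rb, rc, hb.ch hA hp, hc.ch hA hp, hb.invAll hA b3, hc.invAll hA c3, hb.orth_ro hA hT hc b4 c4,
    hb.orth_one_ro hA hT b4, hc.orth_one_ro hA hT c5⟩

/-- **`Tri S` from three labels** -/
theorem tri_of (hA : Api f) (hp : p = 3) (hT : CenT f s) {wa wb wc : D.W} {a b c : Lbl D}
    (a1 : GP D wa a) (a2 : s.Zw f wa a) (a3 : Stb2 D Adm wa a) (a4 : ¬ RO D a 4)
    (b1 : GP D wb b) (b2 : s.Zw f wb b) (b3 : Stb D Adm wb b) (b4 : RO D b 4) (b5 : ¬ RO D b 2)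
    (c1 : GP D wc c) (c2 : s.Zw f wc c) (c3 : Stb D Adm wc c) (c4 : RO D c 2) (c5 : ¬ RO D c 1) : Tri S := by
  have := s.finite
  obtain ⟨ra, ha⟩ := exists_dsc a1 a2
  obtain ⟨rb, hb⟩ := exists_dsc b1 b2
  obtain ⟨rc, hc⟩ := exists_dsc c1 c2
  exact ⟨rb, rc, ra, hb.ch hA hp, hc.ch hA hp, ha.ch hA hp, hb.invAll hA b3, hc.invAll hA c3, ha.invSq hA a3,
    hb.orth_ro hA hT hc b5 c4, (ha.orth_ro hA hT hb a4 b4).symm,
    (ha.orth_ro hA hT hc a4 (c4.dvd (by norm_num))).symm, hb.orth_one_ro hA hT b5, hc.orth_one_ro hA hT c5,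
    ha.orth_one_ro hA hT a4⟩

end Cfsg.Agent.KZ.Ch3
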